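/-
The types of groups of order eight needed for the simple group of order 175560.
-/
import Mathlib
import Cfsg.Agent.EqLemmas

set_option autoImplicit false

namespace Cfsg.Agent.OrderJanko

open Subgroup

variable {P : Type*} [Group P] [Finite P]

theorem pow_val_add {x : P} {n : ℕ} [NeZero n] (hx : x ^ n = 1) (i j : ZMod n) :
    x ^ (i + j).val = x ^ i.val * x ^ j.val := by
  rw [ZMod.val_add, ← pow_eq_pow_mod _ hx, pow_add]

/-- A group of order eight is elementary, commutative, quaternion or dihedral. -/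
theorem eight_types (h : Nat.card P = 8) : (∀ x : P, x * x = 1) ∨ IsMulCommutative P ∨
    Nonempty (P ≃* QuaternionGroup 2) ∨ Nonempty (P ≃* DihedralGroup 4) := by
  classical
  by_cases he : ∀ x : P, x * x = 1
  · exact Or.inl he
  by_cases hc : IsMulCommutative P
  · exact Or.inr (Or.inl hc)
  right; right
  push Not at he
  obtain ⟨σ, hσ⟩ := he
  have h8 : orderOf σ ∣ 8 := h ▸ orderOf_dvd_natCard σ
  have hne8 : orderOf σ ≠ 8 := fun h' => hc <| by
    have : IsCyclic P := isCyclic_of_orderOf_eq_card σ (by rw [h', h])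
    infer_instance
  have ho : orderOf σ = 4 := by
    have h2 : ¬ orderOf σ ∣ 2 := fun h' => hσ (by rw [← pow_two]; exact orderOf_dvd_iff_pow_eq_one.mp h')
    have := Nat.le_of_dvd (by norm_num) h8
    generalize orderOf σ = o at h8 hne8 h2 this
    interval_cases o <;> omega
  have hσ4 : σ ^ 4 = 1 := by rw [← ho, pow_orderOf_eq_one]
  have hidx : (zpowers σ).index = 2 := by
    have := card_mul_index (zpowers σ)
    rw [Nat.card_zpowers, ho, h] at this
    omega
  obtain ⟨τ, hτ⟩ : ∃ τ, τ ∉ zpowers σ := by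
    by_contra hall
    push Not at hall
    rw [index_eq_one.mpr (eq_top_iff.mpr fun x _ => hall x)] at hidx
    omega
  have hnorm := normal_of_index_eq_two hidx
  have hgen : ∀ x, x ∈ zpowers σ ∨ τ * x ∈ zpowers σ := by
    intro x
    by_cases hx : x ∈ zpowers σ
    · exact Or.inl hx
    · exact Or.inr ((mul_mem_iff_of_index_two hidx).mpr (iff_of_false hτ hx))
  obtain ⟨i, hi, hconj⟩ : ∃ i, i < 4 ∧ τ * σ * τ⁻¹ = σ ^ i := by
    obtain ⟨i, hi, hi'⟩ := (isOfFinOrder_of_finite σ).mem_zpowers_iff_mem_range_orderOf.mp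
      (hnorm.conj_mem σ (mem_zpowers σ) τ) |> Finset.mem_image.mp
    exact ⟨i, by rw [ho] at hi; exact Finset.mem_range.mp hi, hi'.symm⟩
  have hinv : τ * σ * τ⁻¹ = σ⁻¹ := by
    interval_cases i
    · rw [pow_zero, conj_eq_one_iff] at hconj
      rw [hconj, orderOf_one] at ho
      omega
    · exfalso
      apply hc
      have hcom : Commute τ σ := by
        rw [pow_one] at hconj; exact mul_inv_eq_iff_eq_mul.mp hconj
      have hz : ∀ u ∈ zpowers σ, Commute τ u ∧ Commute σ u := fun u hu => by
        obtain ⟨k, rfl⟩ := mem_zpowers_iff.mp hu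
        exact ⟨hcom.zpow_right k, (Commute.refl σ).zpow_right k⟩
      have hzz : ∀ u ∈ zpowers σ, ∀ w ∈ zpowers σ, Commute u w := fun u hu w hw => by
        obtain ⟨k, rfl⟩ := mem_zpowers_iff.mp hu
        exact (hz w hw).2.zpow_left k
      have hall : ∀ x, Commute τ x := fun x => by
        rcases hgen x with hx | hx
        · exact (hz x hx).1
        · have := (hz _ hx).1
          rw [show x = τ⁻¹ * (τ * x) by group]
          exact ((Commute.refl τ).inv_right).mul_right this
      refine ⟨⟨fun x y => ?_⟩⟩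
      rcases hgen x with hx | hx <;> rcases hgen y with hy | hy
      · exact hzz x hx y hy
      · rw [show y = τ⁻¹ * (τ * y) by group]
        exact ((hall x).symm.inv_right).mul_right (hzz x hx _ hy)
      · rw [show x = τ⁻¹ * (τ * x) by group]
        exact ((hall y).inv_left).mul_left (hzz _ hx y hy)
      · rw [show y = τ⁻¹ * (τ * y) by group]
        refine ((hall x).symm.inv_right).mul_right ?_
        rw [show x = τ⁻¹ * (τ * x) by group]
        exact ((hall _).inv_left).mul_left (hzz _ hx _ hy)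
    · exfalso
      have h2 : orderOf (τ * σ * τ⁻¹) = 4 := by rw [← MulAut.conj_apply, MulEquiv.orderOf_eq, ho]
      have hd := orderOf_dvd_of_pow_eq_one (x := τ * σ * τ⁻¹) (n := 2) (by rw [hconj, ← pow_mul]; exact hσ4)
      rw [h2] at hd
      omega
    · rw [hconj, eq_inv_iff_mul_eq_one, ← pow_succ, hσ4]
  let e : ZMod 4 → P := fun k => σ ^ k.val
  have he1 : ∀ i j : ZMod 4, e (i + j) = e i * e j := pow_val_add hσ4
  have he0 : e 0 = 1 := pow_zero σ
  have hneg : ∀ k : ZMod 4, e (-k) = (e k)⁻¹ := fun k =>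
    eq_inv_of_mul_eq_one_left (by rw [← he1, neg_add_cancel, he0])
  have hflip : ∀ k : ZMod 4, e k * τ = τ * e (-k) := by
    intro k
    rw [hneg]
    show σ ^ k.val * τ = τ * (σ ^ k.val)⁻¹
    have h' : τ * σ⁻¹ * τ⁻¹ = σ := by rw [← conj_inv, hinv, inv_inv]
    calc σ ^ k.val * τ = (τ * σ⁻¹ * τ⁻¹) ^ k.val * τ := by rw [h']
      _ = τ * (σ ^ k.val)⁻¹ := by rw [conj_pow, inv_pow]; group
  have hsqmem : τ * τ ∈ zpowers σ :=
    (mul_mem_iff_of_index_two hidx).mpr Iff.rfl
  obtain ⟨c, hc'⟩ : ∃ c : ZMod 4, τ * τ = e c := by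
    obtain ⟨k, hk, hk'⟩ := (isOfFinOrder_of_finite σ).mem_zpowers_iff_mem_range_orderOf.mp hsqmem |>
      Finset.mem_image.mp
    rw [ho] at hk
    refine ⟨(k : ZMod 4), ?_⟩
    show _ = σ ^ ((k : ZMod 4)).val
    rw [ZMod.val_natCast, Nat.mod_eq_of_lt (Finset.mem_range.mp hk)]
    exact hk'.symm
  have hcneg : e c = e (-c) := by
    have h1 := hflip c
    rw [← hc', mul_assoc] at h1
    exact hc'.symm.trans (mul_left_cancel h1)
  have hc02 : c = 0 ∨ c = 2 := by
    have h1 : σ ^ (c + c).val = 1 := by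
      show e (c + c) = 1
      rw [he1]
      nth_rewrite 2 [hcneg]
      rw [hneg, mul_inv_cancel]
    have hd := orderOf_dvd_of_pow_eq_one h1
    rw [ho] at hd
    have key : ∀ c : ZMod 4, 4 ∣ (c + c).val → c = 0 ∨ c = 2 := by decide
    exact key c hd
  -- a bijective homomorphism
  have hbij : ∀ {Q : Type} [Group Q], Nat.card Q = 8 → ∀ f : Q →* P, σ ∈ f.range → τ ∈ f.range →
      Nonempty (P ≃* Q) := by
    intro Q _ hQ f hs ht
    have : Finite Q := Nat.finite_of_card_ne_zero (by omega)
    have hsurj : Function.Surjective f := by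
      rw [← MonoidHom.range_eq_top, eq_top_iff]
      intro x _
      rcases hgen x with hx | hx
      · exact (zpowers_le.mpr hs) hx
      · rw [show x = τ⁻¹ * (τ * x) by group]
        exact mul_mem (inv_mem ht) ((zpowers_le.mpr hs) hx)
    exact ⟨(MulEquiv.ofBijective f (hsurj.bijective_of_nat_card_le (by rw [hQ, h]))).symm⟩
  rcases hc02 with rfl | rfl
  · right
    have hττ : τ * τ = 1 := hc'.trans he0
    let f : DihedralGroup 4 → P
      | .r k => e k
      | .sr k => τ * e k
    refine hbij (by rw [DihedralGroup.nat_card]) (MonoidHom.mk' f ?_) ⟨.r 1, ?_⟩ ⟨.sr 0, ?_⟩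
    · rintro (i | i) (j | j)
      · simpa [f] using he1 i j
      · simp only [DihedralGroup.r_mul_sr, f]
        rw [← mul_assoc, hflip, mul_assoc, ← he1, neg_add_eq_sub]
      · simp only [DihedralGroup.sr_mul_r, f]
        rw [he1, mul_assoc]
      · simp only [DihedralGroup.sr_mul_sr, f]
        rw [mul_assoc, ← mul_assoc (e i), hflip, ← mul_assoc, ← mul_assoc, hττ, one_mul, ← he1, neg_add_eq_sub]
    · show σ ^ ((1 : ZMod 4)).val = σ
      rw [show ((1 : ZMod 4)).val = 1 from rfl, pow_one]
    · show τ * e 0 = τ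
      rw [he0, mul_one]
  · left
    let f : QuaternionGroup 2 → P
      | .a k => e k
      | .xa k => τ * e k
    refine hbij (Nat.card_eq_fintype_card.trans QuaternionGroup.card) (MonoidHom.mk' f ?_) ⟨.a 1, ?_⟩ ⟨.xa 0, ?_⟩
    · rintro (i | i) (j | j)
      · simpa [f] using he1 i j
      · simp only [QuaternionGroup.a_mul_xa, f]
        rw [← mul_assoc, hflip, mul_assoc, ← he1, neg_add_eq_sub]
      · simp only [QuaternionGroup.xa_mul_a, f]
        rw [he1, mul_assoc]
      · simp only [QuaternionGroup.xa_mul_xa, f]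
        rw [mul_assoc, ← mul_assoc (e i), hflip, ← mul_assoc, ← mul_assoc, hc', ← he1, ← he1]
        congr 1
        push_cast
        abel
    · show σ ^ ((1 : ZMod 4)).val = σ
      rw [show ((1 : ZMod 4)).val = 1 from rfl, pow_one]
    · show τ * e 0 = τ
      rw [he0, mul_one]

end Cfsg.Agent.OrderJanko
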