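/-
A Sylow 2-subgroup of a simple group of order 175560 is elementary or dihedral.
Main results: `eq_one_of_fixed`, `card_two`, `exp_two_or_dihedral`.
-/
import Cfsg.Agent.Lib.OrderJanko.Types
import Cfsg.Agent.Lib.SmallOrders.Basic
import Cfsg.Agent.Lib.Transfer.Focal
import Cfsg.Agent.S0201

set_option autoImplicit false

namespace Cfsg.Agent.OrderJanko

open Cfsg Subgroup SmallOrders

variable {G : Type*} [Group G] [Finite G] [IsSimpleGroup G]

/-- No non-trivial element of an abelian Sylow subgroup of a simple group is fixed by its normaliser. -/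
theorem eq_one_of_fixed (hG : ¬ IsMulCommutative G) {p : ℕ} [Fact p.Prime] (S : Sylow p G)
    [IsMulCommutative (S : Subgroup G)] {u : G} (hu : u ∈ (S : Subgroup G))
    (hfix : ∀ n ∈ normalizer ((S : Subgroup G) : Set G), n * u * n⁻¹ = u) : u = 1 := by
  open scoped IsMulCommutative in
  have key : ∀ (k : ℕ) (g₀ : G), g₀⁻¹ * u ^ k * g₀ ∈ (S : Subgroup G) → g₀⁻¹ * u ^ k * g₀ = u ^ k := by
    intro k g₀ hk
    obtain ⟨m, hm, he⟩ := Transfer.normalizer_control_of_comm S (u ^ k) (pow_mem hu k) g₀⁻¹
      (by rwa [inv_inv])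
    rw [inv_inv] at he
    rw [← he, ← conj_pow, hfix m hm]
  open scoped IsMulCommutative in
  let τ : G →* ↥(S : Subgroup G) := MonoidHom.transfer (MonoidHom.id _)
  rcases τ.normal_ker.eq_bot_or_eq_top with h | h
  · have hinj := (MonoidHom.ker_eq_bot_iff τ).mp h
    exact absurd ⟨⟨fun a b => hinj (by rw [map_mul, map_mul]; exact mul_comm' _ _)⟩⟩ hG
  · open scoped IsMulCommutative in
    have h1 : τ u = 1 := MonoidHom.mem_ker.mp (h ▸ mem_top u)
    have h2 := (MonoidHom.transfer_eq_pow (MonoidHom.id ↥(S : Subgroup G)) u key).symm.trans h1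
    have h3 : u ^ (S : Subgroup G).index = 1 := congrArg Subtype.val h2
    obtain ⟨e, he⟩ := IsPGroup.iff_card.mp S.isPGroup'
    have h4 : u ^ p ^ e = 1 := by
      rw [← he]
      exact congrArg Subtype.val (pow_card_eq_one' (x := (⟨u, hu⟩ : (S : Subgroup G))))
    have hc : Nat.Coprime (p ^ e) (S : Subgroup G).index :=
      ((Fact.out : p.Prime).coprime_iff_not_dvd.mpr S.not_dvd_index).pow_left e
    have h5 := Nat.eq_one_of_dvd_coprimes hc (orderOf_dvd_of_pow_eq_one h4) (orderOf_dvd_of_pow_eq_one h3)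
    exact orderOf_eq_one_iff.mp h5

variable (hn : Nat.card G = 175560)
include hn

omit [IsSimpleGroup G] in
theorem card_sylow_two (S : Sylow 2 G) : Nat.card (S : Subgroup G) = 8 := by
  have : Fact (Nat.Prime 2) := ⟨Nat.prime_two⟩
  exact card_sylow_subgroup (e := 3) (m := 21945) (hn.trans (by norm_num)) (by norm_num) S

theorem not_comm : ¬ IsMulCommutative G :=
  not_isMulCommutative_of_card (by rw [hn]; exact Nat.not_prime_of_dvd_of_lt (dvd_refl 2 |>.trans (by norm_num)) le_rfl (by norm_num))

/-- The Sylow 2-subgroups are elementary or dihedral. -/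
theorem exp_two_or_dihedral (S : Sylow 2 G) :
    (∀ x ∈ (S : Subgroup G), x * x = 1) ∨ Nonempty ((S : Subgroup G) ≃* DihedralGroup 4) := by
  classical
  have : Fact (Nat.Prime 2) := ⟨Nat.prime_two⟩
  have hG := not_comm hn
  have h8 := card_sylow_two hn S
  rcases eight_types h8 with h | h | ⟨⟨e⟩⟩ | h
  · exact Or.inl fun x hx => congrArg Subtype.val (h ⟨x, hx⟩)
  · by_cases he : ∀ x ∈ (S : Subgroup G), x * x = 1
    · exact Or.inl he
    exfalso
    push Not at he
    obtain ⟨x, hx, hxx⟩ := he
    let φ : ↥(S : Subgroup G) →* ↥(S : Subgroup G) :=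
      MonoidHom.mk' (fun a => a * a) fun a b => Commute.mul_mul_mul_comm (mul_comm' b a) a b
    have hmul := φ.ker.card_mul_index
    rw [index_ker, h8] at hmul
    have hk1 : Nat.card φ.ker ≠ 1 := by
      obtain ⟨z, hz⟩ := exists_prime_orderOf_dvd_card' (G := ↥(S : Subgroup G)) 2 (by rw [h8]; norm_num)
      intro h1
      have : z ∈ (⊥ : Subgroup _) := by
        rw [← eq_bot_of_card_eq φ.ker h1]
        show z * z = 1
        have h2 := pow_orderOf_eq_one z
        rwa [hz, pow_two] at h2
      rw [mem_bot.mp this, orderOf_one] at hz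
      omega
    have hk8 : Nat.card φ.range ≠ 1 := by
      intro h1
      have : φ ⟨x, hx⟩ ∈ (⊥ : Subgroup _) := by
        rw [← eq_bot_of_card_eq φ.range h1]; exact ⟨_, rfl⟩
      exact hxx (congrArg Subtype.val (mem_bot.mp this))
    -- a subgroup of order two which is invariant under the normaliser
    obtain ⟨D, hD2, hDinv⟩ : ∃ D : Subgroup ↥(S : Subgroup G), Nat.card D = 2 ∧
        ∀ n ∈ normalizer ((S : Subgroup G) : Set G), ∀ a ∈ D, ∀ b : ↥(S : Subgroup G),
          (b : G) = n * (a : G) * n⁻¹ → b ∈ D := by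
      have hcases : Nat.card φ.ker = 2 ∨ Nat.card φ.range = 2 := by
        have h1 : Nat.card φ.ker ∣ 8 := ⟨_, hmul.symm⟩
        have h2 := Nat.le_of_dvd (by norm_num) h1
        generalize Nat.card φ.ker = a at *
        interval_cases a <;> omega
      rcases hcases with hh | hh
      · refine ⟨_, hh, fun n _ a ha b hb => Subtype.ext ?_⟩
        show (b : G) * b = 1
        rw [hb, conj_mul, show (a : G) * a = 1 from congrArg Subtype.val ha, mul_one, mul_inv_cancel]
      · refine ⟨_, hh, fun n hn' a ha b hb => ?_⟩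
        obtain ⟨c, rfl⟩ := ha
        refine ⟨⟨n * c * n⁻¹, (mem_normalizer_iff.mp hn' _).mp c.2⟩, Subtype.ext ?_⟩
        show n * (c : G) * n⁻¹ * (n * c * n⁻¹) = b
        rw [hb, conj_mul]
        rfl
    obtain ⟨u, hu⟩ := exists_prime_orderOf_dvd_card' (G := D) 2 (by rw [hD2])
    have hune : (u : ↥(S : Subgroup G)) ≠ 1 := fun h1 => by
      rw [show u = 1 from Subtype.ext h1, orderOf_one] at hu; omega
    have hfix : ∀ n ∈ normalizer ((S : Subgroup G) : Set G),
        n * ((u : ↥(S : Subgroup G)) : G) * n⁻¹ = ((u : ↥(S : Subgroup G)) : G) := by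
      intro n hn'
      set b : ↥(S : Subgroup G) := ⟨_, (mem_normalizer_iff.mp hn' _).mp (u : ↥(S : Subgroup G)).2⟩ with hb
      have hbD : b ∈ D := hDinv n hn' _ u.2 b rfl
      have h3 : ∀ w : D, w = 1 ∨ w = u := by
        intro w
        obtain ⟨a, c, hac, hall⟩ := Nat.card_eq_two_iff.mp hD2
        have hu1 : u ≠ 1 := fun h1 => hune (congrArg Subtype.val h1)
        have hw : w = a ∨ w = c := by simpa using (hall ▸ Set.mem_univ w : w ∈ ({a, c} : Set D))
        have h1' : (1 : D) = a ∨ (1 : D) = c := by simpa using (hall ▸ Set.mem_univ (1 : D) : (1 : D) ∈ ({a, c} : Set D))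
        have hu' : u = a ∨ u = c := by simpa using (hall ▸ Set.mem_univ u : u ∈ ({a, c} : Set D))
        grind
      rcases h3 ⟨b, hbD⟩ with h1 | h1
      · exfalso
        have : b = 1 := congrArg Subtype.val h1
        exact hune (Subtype.ext (conj_eq_one_iff.mp (congrArg Subtype.val this)))
      · exact congrArg (fun w : D => ((w : ↥(S : Subgroup G)) : G)) h1
    exact hune (Subtype.ext (eq_one_of_fixed hG S (u : ↥(S : Subgroup G)).2 hfix))
  · exfalso
    have h2 := Cfsg.Agent.S0201.result S 0 e fun N hN hodd => hN.eq_bot_or_eq_top.resolve_right fun htop => by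
      rw [htop, card_top, hn] at hodd
      exact absurd hodd (by decide)
    rw [center_eq_bot hG, card_bot] at h2
    omega
  · exact Or.inr h

end Cfsg.Agent.OrderJanko
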