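/-
Fixed points of elements of prime order and a permutation argument in degree 21.
Main results: `card_fixed_mod`, `false_of_commute_nineteen_eleven`.
-/
import Cfsg.Agent.Lib.SmallOrders.Basic
import Cfsg.Agent.EqLemmas

set_option autoImplicit false

namespace Cfsg.Agent.OrderJanko

open Subgroup

variable {G : Type*} [Group G] [Finite G]

omit [Finite G] in
theorem card_fixed_mod {X : Type*} [MulAction G X] [Finite X] {p : ℕ} [Fact p.Prime] {x : G}
    (hx : orderOf x = p) : Nat.card {q : X // x • q = q} % p = Nat.card X % p := by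
  have hP : IsPGroup p (zpowers x) := IsPGroup.of_card (n := 1) (by rw [Nat.card_zpowers, hx, pow_one])
  have h := hP.card_modEq_card_fixedPoints X
  have e : Nat.card {q : X // x • q = q} = Nat.card (MulAction.fixedPoints (zpowers x) X) := by
    refine Nat.card_congr (Equiv.subtypeEquivRight fun q => ⟨fun hq => ?_, fun hq => hq ⟨x, mem_zpowers x⟩⟩)
    rintro ⟨y, hy⟩
    exact MulAction.mem_stabilizer_iff.mp
      (zpowers_le.mpr (show x ∈ MulAction.stabilizer G q from hq) hy)
  rw [e]
  exact h.symm

omit [Finite G] in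
theorem card_fixed_le {X : Type*} [MulAction G X] [Finite X] (x : G) :
    Nat.card {q : X // x • q = q} ≤ Nat.card X :=
  Nat.card_le_card_of_injective Subtype.val Subtype.val_injective

omit [Finite G] in
theorem smul_eq_of_pow_smul_eq {X : Type*} [MulAction G X] {p k : ℕ} [hp : Fact p.Prime] {x : G}
    (hx : orderOf x = p) (h0 : 0 < k) (hk : k < p) {q : X} (h : x ^ k • q = q) : x • q = q := by
  have hcop : Nat.Coprime k (orderOf x) := by
    rw [hx, Nat.coprime_comm, hp.out.coprime_iff_not_dvd]
    exact fun hd => absurd (Nat.le_of_dvd h0 hd) (by omega)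
  obtain ⟨m, hm⟩ := exists_pow_eq_self_of_coprime hcop
  have h2 : (x ^ k) ^ m ∈ MulAction.stabilizer G q := pow_mem (MulAction.mem_stabilizer_iff.mpr h) m
  rwa [hm] at h2

/-- In a simple group no subgroup of index 21 leaves room for commuting elements of orders 19 and 11. -/
theorem false_of_commute_nineteen_eleven [IsSimpleGroup G] (C : Subgroup G) (hC : C.index = 21) {g h : G}
    (hg : orderOf g = 19) (hh : orderOf h = 11) (hgh : Commute g h) : False := by
  classical
  have : Fact (Nat.Prime 19) := ⟨by norm_num⟩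
  have : Fact (Nat.Prime 11) := ⟨by norm_num⟩
  have hQ : Nat.card (G ⧸ C) = 21 := by rw [← index_eq_card, hC]
  have hCtop : C ≠ ⊤ := fun h => by rw [h, index_top] at hC; omega
  have hfaith : ∀ x : G, Nat.card {q : G ⧸ C // x • q = q} = 21 → x = 1 := by
    intro x hx
    have hall : ∀ q : G ⧸ C, x • q = q := by
      intro q
      obtain ⟨r, rfl⟩ := ((Subtype.val_injective
        (p := fun q : G ⧸ C => x • q = q)).bijective_of_nat_card_le (by rw [hx, hQ])).2 q
      exact r.2
    have hx' : x⁻¹ ∈ C.normalCore := by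
      intro b
      have hb := QuotientGroup.eq.mp (show ((x * b⁻¹ : G) : G ⧸ C) = ((b⁻¹ : G) : G ⧸ C) from hall ((b⁻¹ : G) : G ⧸ C))
      simpa [mul_assoc] using hb
    rw [SmallOrders.normalCore_eq_bot hCtop, mem_bot, inv_eq_one] at hx'
    exact hx'
  have hF : Nat.card {q : G ⧸ C // g • q = q} = 2 := by
    have h1 := card_fixed_mod (X := G ⧸ C) hg
    have h2 := card_fixed_le (X := G ⧸ C) g
    have h3 : Nat.card {q : G ⧸ C // g • q = q} ≠ 21 := fun h => by
      rw [hfaith g h, orderOf_one] at hg; omega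
    rw [hQ] at h1 h2
    omega
  have hFH : ∀ q : G ⧸ C, g • q = q → h • q = q := by
    intro q hq
    have hmem : ∀ n : ℕ, g • (h ^ n • q) = h ^ n • q := fun n => by
      rw [← mul_smul, (hgh.pow_right n).eq, mul_smul, hq]
    by_contra hne
    have hinj : Function.Injective (fun i : Fin 3 => (⟨h ^ i.1 • q, hmem i.1⟩ : {q : G ⧸ C // g • q = q})) := by
      intro i j e
      have e' : h ^ i.1 • q = h ^ j.1 • q := congrArg Subtype.val e
      rcases lt_trichotomy i.1 j.1 with hij | hij | hij
      · exfalso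
        rw [show j.1 = i.1 + (j.1 - i.1) by omega, pow_add, mul_smul] at e'
        exact hne (smul_eq_of_pow_smul_eq hh (k := j.1 - i.1) (by omega) (by omega) (smul_left_cancel _ e').symm)
      · exact Fin.ext hij
      · exfalso
        rw [show i.1 = j.1 + (i.1 - j.1) by omega, pow_add, mul_smul] at e'
        exact hne (smul_eq_of_pow_smul_eq hh (k := i.1 - j.1) (by omega) (by omega) (smul_left_cancel _ e'))
    have h3 := Nat.card_le_card_of_injective _ hinj
    rw [Nat.card_fin, hF] at h3
    omega
  have hH1 := card_fixed_mod (X := G ⧸ C) hh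
  have hH2 := card_fixed_le (X := G ⧸ C) h
  rw [hQ] at hH1 hH2
  by_cases hex : ∃ q : G ⧸ C, h • q = q ∧ g • q ≠ q
  · obtain ⟨q, hq, hgq⟩ := hex
    have hinv : ∀ n : ℕ, h • (g ^ n • q) = g ^ n • q := fun n => by
      rw [← mul_smul, ← (hgh.pow_left n).eq, mul_smul, hq]
    have hnf : ∀ n : ℕ, g • (g ^ n • q) ≠ g ^ n • q := fun n hn => by
      rw [← mul_smul, ← pow_succ', pow_succ, mul_smul] at hn
      exact hgq (smul_left_cancel _ hn)
    let f : Fin 19 ⊕ {q : G ⧸ C // g • q = q} → {q : G ⧸ C // h • q = q} :=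
      Sum.elim (fun i => ⟨g ^ i.1 • q, hinv i.1⟩) (fun r => ⟨r.1, hFH r.1 r.2⟩)
    have key : ∀ i : ℕ, i < 19 → g ^ i • q = q → i = 0 := fun i hi hiq =>
      Nat.eq_zero_of_not_pos fun h0 => hgq (smul_eq_of_pow_smul_eq hg h0 hi hiq)
    have key2 : ∀ i j : Fin 19, i.1 ≤ j.1 → g ^ i.1 • q = g ^ j.1 • q → i = j := by
      intro i j hij e
      rw [show j.1 = i.1 + (j.1 - i.1) by omega, pow_add, mul_smul] at e
      have := key (j.1 - i.1) (by omega) (smul_left_cancel _ e).symm
      exact Fin.ext (by omega)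
    have hinj : Function.Injective f := by
      rintro (i | r) (j | s) e <;> have e' := congrArg Subtype.val e <;> simp only [f, Sum.elim_inl, Sum.elim_inr] at e'
      · rcases Nat.le_total i.1 j.1 with hij | hij
        · exact congrArg Sum.inl (key2 i j hij e')
        · exact congrArg Sum.inl (key2 j i hij e'.symm).symm
      · exact absurd (e'.symm ▸ s.2) (hnf i.1)
      · exact absurd (e' ▸ r.2) (hnf j.1)
      · exact congrArg Sum.inr (Subtype.ext e')
    have h7 := Nat.card_le_card_of_injective f hinj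
    rw [Nat.card_sum, Nat.card_fin, hF] at h7
    rw [hfaith h (le_antisymm hH2 (by omega)), orderOf_one] at hh
    omega
  · push Not at hex
    have h8 : Nat.card {q : G ⧸ C // h • q = q} ≤ 2 := hF ▸ Nat.card_le_card_of_injective
      (fun r => (⟨r.1, hex r.1 r.2⟩ : {q : G ⧸ C // g • q = q})) (fun r s e => Subtype.ext (congrArg (fun t => t.1) e))
    omega

end Cfsg.Agent.OrderJanko
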