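/-
The arithmetic of the order formula for a dihedral Sylow 2-subgroup of order 8 and group order 175560.
Main result: `dihedral_solution`.
-/
import Mathlib
import Cfsg.Agent.EqLemmas

set_option autoImplicit false

namespace Cfsg.Agent.OrderJanko

/-- The divisors of `21945`. -/
def oddDiv : List ℕ := [1, 3, 5, 7, 11, 15, 19, 21, 33, 35, 55, 57, 77, 95, 105, 133, 165, 209, 231, 285, 385,
  399, 627, 665, 1045, 1155, 1463, 1995, 3135, 4389, 7315, 21945]

theorem mem_oddDiv_aux : ∀ a < 220, ∀ b < 100, a * 100 + b ∣ 21945 → a * 100 + b ∈ oddDiv := by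
  decide +kernel

theorem mem_oddDiv {m : ℕ} (h : m ∣ 21945) : m ∈ oddDiv := by
  have := Nat.le_of_dvd (by norm_num) h
  have h2 := mem_oddDiv_aux (m / 100) (by omega) (m % 100) (by omega)
  rw [Nat.div_add_mod'] at h2
  exact h2 h

/-- Degree, degree minus sign, degree plus sign. -/
def degCands : List (ℕ × ℕ × ℕ) := [(7, 8, 6), (15, 16, 14), (33, 32, 34), (55, 56, 54), (57, 56, 58),
  (95, 96, 94), (105, 104, 106), (209, 208, 210), (231, 232, 230), (385, 384, 386), (399, 400, 398)]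

theorem degCands_pos : ∀ d ∈ oddDiv, d ≤ 419 → d ≠ 1 → 8 ∣ d - 1 → (d, d - 1, d + 1) ∈ degCands := by
  decide

theorem degCands_neg : ∀ d ∈ oddDiv, d ≤ 419 → 8 ∣ d + 1 → (d, d + 1, d - 1) ∈ degCands := by
  decide

theorem formula_check : ∀ m ∈ oddDiv, ∀ a ∈ oddDiv.filter (fun a => m % a == 0),
    ∀ b ∈ oddDiv.filter (fun b => m % b == 0), ∀ x ∈ degCands,
      21945 * (a * a) * (b * b) * (x.2.1 * x.2.1) = 8 * x.1 * x.2.2 * (m * m * m) * ((a + b) * (a + b)) →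
        m = 1045 ∧ a = 1045 := by
  decide +kernel

theorem eight_dvd_of_formula {m a b d u v : ℕ} (hm : m ∣ 21945) (ha : a ∣ m) (hb : b ∣ m) (hd : d ∣ 175560)
    (huv : (u = d - 1 ∧ v = d + 1) ∨ (u = d + 1 ∧ v = d - 1))
    (h : 21945 * (a * a) * (b * b) * (u * u) = 8 * d * v * (m * m * m) * ((a + b) * (a + b))) :
    d ∣ 21945 ∧ 8 ∣ u := by
  have hodd : ∀ k, k ∣ 21945 → k % 2 = 1 := fun k hk => by
    obtain ⟨c, hc⟩ := hk
    rcases Nat.mod_two_eq_zero_or_one k with h0 | h0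
    · have := Nat.mul_mod k c 2
      rw [← hc, h0] at this
      simp at this
    · exact h0
  have ha1 := hodd a (ha.trans hm)
  have hb1 := hodd b (hb.trans hm)
  have hd0 : 0 < d := Nat.pos_of_dvd_of_pos hd (by norm_num)
  have hd1 : d % 2 = 1 := by
    rcases Nat.mod_two_eq_zero_or_one d with h0 | h0
    · exfalso
      have h2 := congrArg (· % 2) h
      have hu1 : u % 2 = 1 := by omega
      simp [Nat.mul_mod, ha1, hb1, hu1, h0] at h2
    · exact h0
  have hd' : d ∣ 21945 := by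
    have hc : Nat.Coprime d 8 := by
      have : Nat.Coprime d 2 := by rw [Nat.coprime_two_right]; exact Nat.odd_iff.mpr hd1
      exact this.pow_right 3
    exact hc.dvd_of_dvd_mul_left (show d ∣ 8 * 21945 by norm_num; exact hd)
  refine ⟨hd', ?_⟩
  obtain ⟨s, hs⟩ : 2 ∣ v := by omega
  obtain ⟨t, ht⟩ : 2 ∣ a + b := by omega
  have h64 : 64 ∣ 21945 * (a * a) * (b * b) * (u * u) := ⟨d * s * (m * m * m) * (t * t), by
    rw [h, hs, ht]; ring⟩
  have hc : Nat.Coprime 64 (21945 * (a * a) * (b * b)) := by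
    have : Nat.Coprime 2 (21945 * (a * a) * (b * b)) := by
      rw [Nat.coprime_two_left, Nat.odd_iff]
      simp [Nat.mul_mod, ha1, hb1]
    exact this.pow_left 6
  have h2 : 8 ^ 2 ∣ u ^ 2 := by rw [pow_two u]; exact hc.dvd_of_dvd_mul_left h64
  exact (Nat.pow_dvd_pow_iff two_ne_zero).mp h2

/-- The only solution of the order formula. -/
theorem dihedral_solution {m a b d : ℕ} {δ : ℤ} (hm : m ∣ 21945) (ha : a ∣ m) (hb : b ∣ m)
    (hd : d ∣ 175560) (hd2 : d ≤ 419) (hδ : δ = 1 ∨ δ = -1) (hne : (d : ℤ) ≠ δ)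
    (h : (175560 : ℚ) * ((d : ℚ) - δ) ^ 2 = 2 * d * ((d : ℚ) + δ) * ((8 * m : ℕ) : ℚ) ^ 3 *
      (1 / ((4 * a : ℕ) : ℚ) + 1 / ((4 * b : ℕ) : ℚ)) ^ 2) : m = 1045 ∧ a = 1045 := by
  have hm0 : 0 < m := Nat.pos_of_dvd_of_pos hm (by norm_num)
  have ha0 : (a : ℚ) ≠ 0 := Nat.cast_ne_zero.mpr (Nat.pos_of_dvd_of_pos ha hm0).ne'
  have hb0 : (b : ℚ) ≠ 0 := Nat.cast_ne_zero.mpr (Nat.pos_of_dvd_of_pos hb hm0).ne'
  have hd0 : 0 < d := Nat.pos_of_dvd_of_pos hd (by norm_num)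
  push_cast at h
  field_simp at h
  obtain ⟨u, v, hu, hv, huv⟩ : ∃ u v : ℕ, (u : ℚ) = (d : ℚ) - δ ∧ (v : ℚ) = (d : ℚ) + δ ∧
      ((u = d - 1 ∧ v = d + 1) ∨ (u = d + 1 ∧ v = d - 1)) := by
    rcases hδ with rfl | rfl
    · exact ⟨d - 1, d + 1, by rw [Nat.cast_sub hd0]; push_cast; ring, by push_cast; ring, Or.inl ⟨rfl, rfl⟩⟩
    · exact ⟨d + 1, d - 1, by push_cast; ring, by rw [Nat.cast_sub hd0]; push_cast; ring, Or.inr ⟨rfl, rfl⟩⟩
  rw [← hu, ← hv] at h
  have key : 21945 * (a * a) * (b * b) * (u * u) = 8 * d * v * (m * m * m) * ((a + b) * (a + b)) := by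
    apply Nat.cast_injective (R := ℚ)
    push_cast
    linear_combination h / 128
  obtain ⟨hd', h8⟩ := eight_dvd_of_formula hm ha hb hd huv key
  have hx : (d, u, v) ∈ degCands := by
    rcases huv with ⟨hu', hv'⟩ | ⟨hu', hv'⟩ <;> subst hu' <;> subst hv'
    · refine degCands_pos d (mem_oddDiv hd') hd2 ?_ h8
      rintro rfl
      rcases hδ with rfl | rfl
      · exact hne rfl
      · norm_num at hu
    · exact degCands_neg d (mem_oddDiv hd') hd2 h8
  exact formula_check m (mem_oddDiv hm) a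
    (List.mem_filter.mpr ⟨mem_oddDiv (ha.trans hm), by simp [Nat.mod_eq_zero_of_dvd ha]⟩) b
    (List.mem_filter.mpr ⟨mem_oddDiv (hb.trans hm), by simp [Nat.mod_eq_zero_of_dvd hb]⟩) (d, u, v) hx key

end Cfsg.Agent.OrderJanko
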