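/-
No simple group of order 175560 has dihedral Sylow 2-subgroups.
Main result: `exp_two`.
-/
import Cfsg.Agent.Lib.OrderJanko.Setup
import Cfsg.Agent.Lib.OrderJanko.Arith
import Cfsg.Agent.Lib.OrderJanko.Tools
import Cfsg.Agent.Lib.Blocks.Induced
import Cfsg.Agent.Lib.Blocks.Defect
import Cfsg.Agent.Lib.Char.Orth
import Cfsg.Agent.Lib.PReduced.Tools
import Cfsg.Agent.S0107
import Cfsg.Agent.S4481
import Cfsg.Agent.S4482

set_option autoImplicit false

namespace Cfsg.Agent.OrderJanko

open Cfsg Subgroup SmallOrders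

theorem center_dihedral_four : ∀ a b : DihedralGroup 4, (∀ c, a * c = c * a) → (∀ c, b * c = c * b) →
    a = 1 ∨ b = 1 ∨ a = b := by
  decide

theorem card_centralizer_sr (i : ZMod 4) :
    Nat.card (centralizer ({DihedralGroup.sr i} : Set (DihedralGroup 4))) = 4 := by
  rw [Nat.card_congr (Equiv.subtypeEquivRight (fun _ => mem_centralizer_singleton_iff)),
    Nat.card_eq_fintype_card]
  revert i
  decide

variable {G : Type*} [Group G] [Finite G]

theorem sq_degree_lt (χ : IrrCharacter G) (h : (χ : G → ℂ) ≠ fun _ => 1) :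
    charDegree (χ : G → ℂ) * charDegree (χ : G → ℂ) < Nat.card G := by
  classical
  have := Fintype.ofFinite (IrrCharacter G)
  have hsum : (∑ ψ : IrrCharacter G, charDegree (ψ : G → ℂ) ^ 2) = Nat.card G := by
    apply Nat.cast_injective (R := ℂ)
    rw [← Char.sum_sq_degrees, Nat.cast_sum]
    exact Finset.sum_congr rfl fun ψ _ => by rw [Nat.cast_pow, Blocks.charDegree_cast]
  have hne : χ ≠ BrauerPairs.oneIrr G := fun e => h (congrArg Subtype.val e)
  rw [← hsum, ← Finset.add_sum_erase _ _ (Finset.mem_univ χ), pow_two]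
  refine Nat.lt_add_of_pos_right (lt_of_lt_of_le ?_
    (Finset.single_le_sum (f := fun ψ : IrrCharacter G => charDegree (ψ : G → ℂ) ^ 2) (fun _ _ => Nat.zero_le _)
      (Finset.mem_erase.mpr ⟨hne.symm, Finset.mem_univ (BrauerPairs.oneIrr G)⟩)))
  exact pow_pos (Blocks.charDegree_pos _) 2

variable [IsSimpleGroup G] (hn : Nat.card G = 175560)
include hn

theorem pResidual_two_eq_top : pResidual 2 G = ⊤ := by
  rcases (PReduced.pResidual_normal 2 G).eq_bot_or_eq_top with h | h
  · exfalso
    have : Fact (Nat.Prime 3) := ⟨Nat.prime_three⟩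
    obtain ⟨x, hx⟩ := exists_prime_orderOf_dvd_card' (G := G) 3 (by rw [hn]; norm_num)
    have : x ∈ pResidual 2 G := subset_closure (show Nat.Coprime (orderOf x) 2 by rw [hx]; norm_num)
    rw [h, mem_bot] at this
    rw [this, orderOf_one] at hx
    omega
  · exact h

theorem not_dihedral (S : Sylow 2 G) (e : (S : Subgroup G) ≃* DihedralGroup 4) : False := by
  classical
  have : Fact (Nat.Prime 2) := ⟨Nat.prime_two⟩
  let ι : DihedralGroup 4 →* G := (S : Subgroup G).subtype.comp e.symm.toMonoidHom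
  have hinj : Function.Injective ι := (S : Subgroup G).subtype_injective.comp e.symm.injective
  have hιS : ∀ k, ι k ∈ (S : Subgroup G) := fun k => (e.symm k).2
  have hone := Cfsg.Agent.S0107.result S 2 le_rfl (by norm_num; exact ⟨e⟩) (pResidual_two_eq_top hn)
  have horder : ∀ k, orderOf (ι k) = orderOf k := fun k => orderOf_injective ι hinj k
  set σ := ι (DihedralGroup.r 1) with hσdef
  set τ := ι (DihedralGroup.sr 0) with hτdef
  have hσo : orderOf σ = 2 ^ (3 - 1) := by rw [hσdef, horder, DihedralGroup.orderOf_r_one]; rfl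
  have hσ2 : σ ^ 2 ^ (3 - 2) = ι (DihedralGroup.r 2) := by rw [hσdef, ← map_pow]; rfl
  have hστ : σ * τ = ι (DihedralGroup.sr 3) := by rw [hσdef, hτdef, ← map_mul]; rfl
  have hrel : τ * σ * τ⁻¹ = σ⁻¹ := by
    rw [hσdef, hτdef, ← map_inv, ← map_inv, ← map_mul, ← map_mul]; rfl
  have hgen : closure ({σ, τ} : Set G) = (S : Subgroup G) := by
    refine le_antisymm ((closure_le _).mpr ?_) fun x hx => ?_
    · rintro x (rfl | rfl) <;> exact hιS _
    · have hxk : x = ι (e ⟨x, hx⟩) := by simp [ι]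
      rw [hxk]
      generalize e ⟨x, hx⟩ = k
      have hσm : σ ∈ closure ({σ, τ} : Set G) := subset_closure (Or.inl rfl)
      have hτm : τ ∈ closure ({σ, τ} : Set G) := subset_closure (Or.inr rfl)
      rcases k with i | i
      · rw [show (DihedralGroup.r i : DihedralGroup 4) = DihedralGroup.r 1 ^ i.val by
          rw [DihedralGroup.r_one_pow, ZMod.natCast_zmod_val], map_pow]
        exact pow_mem hσm _
      · rw [show (DihedralGroup.sr i : DihedralGroup 4) = DihedralGroup.sr 0 * DihedralGroup.r 1 ^ i.val by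
          rw [DihedralGroup.r_one_pow, ZMod.natCast_zmod_val, DihedralGroup.sr_mul_r, zero_add], map_mul, map_pow]
        exact mul_mem hτm (pow_mem hσm _)
  have hzo : orderOf (ι (DihedralGroup.r 2)) = 2 := by
    rw [horder, DihedralGroup.orderOf_r]; rfl
  have hso : ∀ i, orderOf (ι (DihedralGroup.sr i)) = 2 := fun i => by rw [horder, DihedralGroup.orderOf_sr]
  have hconj : IsConj (σ ^ 2 ^ (3 - 2)) τ ∧ IsConj (σ ^ 2 ^ (3 - 2)) (σ * τ) := by
    rw [hσ2, hστ]
    exact ⟨isConj_iff.mpr (hone _ _ hzo (hso 0)), isConj_iff.mpr (hone _ _ hzo (hso 3))⟩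
  obtain ⟨M, hM⟩ := Blocks.exists_isPModular Nat.prime_two
  have hζ : IsPrimitiveRoot Complex.I (2 ^ (3 - 1)) := Complex.isPrimitiveRoot_iff _ _ (by norm_num) |>.mpr
    ⟨1, by norm_num, by
      norm_num
      rw [show (2 : ℂ) * Real.pi * Complex.I * (1 / 4) = (Real.pi / 2 : ℂ) * Complex.I by ring, Complex.exp_pi_div_two_mul_I]⟩
  obtain ⟨-, χ₁, χ₂, χ₃, χ', δ, δ₂, δ₃, hδ, -, -, -, h1, -, -, -, -, -, -, hB, hvals, -⟩ :=
    Cfsg.Agent.S4481.result M hM 3 le_rfl S ⟨e⟩ σ (hιS _) hσo Complex.I hζ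
  have hχ₁ : χ₁ ∈ principalBlock M G := by rw [hB]; exact Or.inr (Or.inl rfl)
  obtain ⟨hdne, heq⟩ := Cfsg.Agent.S4482.result M hM 3 le_rfl S σ τ (hιS _) (hιS _) hσo (hso 0) hrel hgen
    hconj χ₁ hχ₁ h1 δ hδ fun l a b => (hvals l a b).1
  rw [hσ2, hστ] at heq
  set z := ι (DihedralGroup.r 2) with hzdef
  set C := centralizer ({z} : Set G) with hCdef
  have hSC : (S : Subgroup G) ≤ C := by
    intro x hx
    have hxk : x = ι (e ⟨x, hx⟩) := by simp [ι]
    refine mem_centralizer_singleton_iff.mpr ?_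
    rw [hxk, hzdef, ← map_mul, ← map_mul]
    congr 1
    have : ∀ k : DihedralGroup 4, k * DihedralGroup.r 2 = DihedralGroup.r 2 * k := by decide
    exact this _
  have hS8 := card_sylow_two hn S
  obtain ⟨m, hm⟩ : 8 ∣ Nat.card C := hS8 ▸ card_dvd_of_le hSC
  have hm' : m ∣ 21945 := by
    have := C.card_subgroup_dvd_card
    rw [hn, hm, show (175560 : ℕ) = 8 * 21945 by norm_num] at this
    exact Nat.dvd_of_mul_dvd_mul_left (by norm_num) this
  have four : ∀ i : ZMod 4, ∃ a, Nat.card (centralizer ({z, ι (DihedralGroup.sr i)} : Set G)) = 4 * a ∧ a ∣ m := by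
    intro i
    set K := centralizer ({z, ι (DihedralGroup.sr i)} : Set G) with hKdef
    have hK : ∀ x, x ∈ K ↔ Commute x z ∧ Commute x (ι (DihedralGroup.sr i)) := fun x => by
      simp [hKdef, mem_centralizer_iff, commute_iff_eq, eq_comm]
    have h4 : 4 ∣ Nat.card K := by
      rw [← card_centralizer_sr i, ← card_map_of_injective hinj]
      refine card_dvd_of_le ?_
      rintro _ ⟨k, hk, rfl⟩
      exact (hK _).mpr ⟨mem_centralizer_singleton_iff.mp (hSC (hιS k)),
        (show Commute k _ from mem_centralizer_singleton_iff.mp hk).map ι⟩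
    obtain ⟨a, ha⟩ := h4
    refine ⟨a, ha, ?_⟩
    have hle : K ≤ C := fun x hx => mem_centralizer_singleton_iff.mpr ((hK x).mp hx).1
    have h8 : 4 * a ∣ 4 * (2 * m) := by
      rw [← ha, ← mul_assoc]
      exact hm ▸ card_dvd_of_le hle
    have ha2 : ¬ 2 ∣ a := by
      intro h2
      obtain ⟨T, hT⟩ := Sylow.exists_subgroup_card_pow_prime (G := K) 2 (n := 3)
        (by rw [ha]; obtain ⟨b, rfl⟩ := h2; exact ⟨b, by ring⟩)
      let Q : Sylow 2 G := Sylow.ofCard (T.map K.subtype) (by
        rw [card_map_of_injective K.subtype_injective, hT, hn, Nat.factorization_def _ Nat.prime_two,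
          show (175560 : ℕ) = 2 ^ 3 * 21945 by norm_num, padicValNat.mul (by norm_num) (by norm_num),
          padicValNat.prime_pow, padicValNat.eq_zero_of_not_dvd (by norm_num : ¬ 2 ∣ 21945)])
      have hQK : ∀ x ∈ (Q : Subgroup G), x ∈ K := fun x hx => by
        obtain ⟨c, -, rfl⟩ := mem_map.mp (show x ∈ T.map K.subtype from hx)
        exact c.2
      have hmemQ : ∀ w : G, orderOf w = 2 → (∀ x ∈ (Q : Subgroup G), Commute x w) →
          ∃ hw : w ∈ (Q : Subgroup G), ∀ c, (⟨w, hw⟩ : (Q : Subgroup G)) * c = c * ⟨w, hw⟩ := by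
        intro w hw hcom
        have hnorm : w ∈ normalizer ((Q : Subgroup G) : Set G) :=
          centralizer_le_normalizer _ (mem_centralizer_iff.mpr fun x hx => (hcom x hx).eq)
        have hp : IsPGroup 2 ↥((Q : Subgroup G) ⊔ zpowers w) :=
          Q.2.to_sup_of_normal_left' (IsPGroup.of_card (n := 1) (by rw [Nat.card_zpowers, hw, pow_one]))
            (zpowers_le.mpr hnorm)
        have hwQ : w ∈ (Q : Subgroup G) := by
          rw [← Q.3 hp le_sup_left]; exact mem_sup_right (mem_zpowers w)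
        exact ⟨hwQ, fun c => Subtype.ext (hcom c c.2).symm.eq⟩
      obtain ⟨hz1, hz2⟩ := hmemQ z hzo fun x hx => ((hK x).mp (hQK x hx)).1
      obtain ⟨hs1, hs2⟩ := hmemQ _ (hso i) fun x hx => ((hK x).mp (hQK x hx)).2
      let f : ↥(Q : Subgroup G) ≃* DihedralGroup 4 := (Q.equiv S).trans e
      have hcen : ∀ (w : ↥(Q : Subgroup G)), (∀ c, w * c = c * w) → ∀ c, f w * c = c * f w := fun w hw c => by
        obtain ⟨c, rfl⟩ := f.surjective c
        rw [← map_mul, ← map_mul, hw]
      rcases center_dihedral_four _ _ (hcen _ hz2) (hcen _ hs2) with h | h | h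
      · rw [map_eq_one_iff f f.injective] at h
        rw [show z = 1 from congrArg Subtype.val h, orderOf_one] at hzo
        omega
      · rw [map_eq_one_iff f f.injective] at h
        have := hso i
        rw [show ι (DihedralGroup.sr i) = 1 from congrArg Subtype.val h, orderOf_one] at this
        omega
      · have h0 := f.injective h
        have h' : z = ι (DihedralGroup.sr i) := congrArg (fun w : ↥(Q : Subgroup G) => (w : G)) h0
        have := hinj h'
        revert this
        simp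
    exact (Nat.Coprime.dvd_of_dvd_mul_left (by rwa [Nat.coprime_comm, Nat.prime_two.coprime_iff_not_dvd])
      (Nat.dvd_of_mul_dvd_mul_left (by norm_num) h8))
  obtain ⟨a, ha, ham⟩ := four 0
  obtain ⟨b, hb, hbm⟩ := four 3
  rw [hn, hm, hτdef, ha, hb] at heq
  set d := charDegree (χ₁ : G → ℂ) with hddef
  have hd : d ∣ 175560 := hn ▸ Blocks.charDegree_dvd_card χ₁
  have hd2 : d ≤ 419 := by
    have := sq_degree_lt χ₁ h1
    rw [hn, ← hddef] at this
    by_contra hh
    push Not at hh
    have := Nat.mul_le_mul hh hh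
    omega
  obtain ⟨rfl, rfl⟩ := dihedral_solution hm' ham hbm hd hd2 hδ hdne (by exact_mod_cast heq)
  have hidx : C.index = 21 := by
    have := C.card_mul_index
    rw [hm, hn] at this
    omega
  -- elements of orders 19 and 11 in the centraliser
  have : Fact (Nat.Prime 19) := ⟨by norm_num⟩
  have : Fact (Nat.Prime 11) := ⟨by norm_num⟩
  obtain ⟨P⟩ := (inferInstance : Nonempty (Sylow 19 C))
  have hP : Nat.card (P : Subgroup C) = 19 := by
    rw [card_sylow_subgroup (e := 1) (m := 440) (hm.trans (by norm_num)) (by norm_num) P, pow_one]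
  have hN : 11 ∣ Nat.card (normalizer ((P : Subgroup C) : Set C)) := by
    have h1 := card_normalizer_mul_card_sylow P
    have h2 : Nat.card (Sylow 19 C) ∣ 440 := by
      rw [← index_sylow (p := 19) (e := 1) (m := 440) (hm.trans (by norm_num)) (by norm_num) P]
      exact P.card_dvd_index
    have h3 : Nat.card (Sylow 19 C) % 19 = 1 := card_sylow_modEq_one 19 C
    have h4 : ∀ n < 441, n ∣ 440 → n % 19 = 1 → n = 1 ∨ n = 20 := by decide +kernel
    rcases h4 _ (Nat.lt_succ_of_le (Nat.le_of_dvd (by norm_num) h2)) h2 h3 with h5 | h5 <;>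
      rw [h5, hm] at h1 <;> omega
  obtain ⟨⟨h, hhN⟩, hho⟩ := exists_prime_orderOf_dvd_card' (G := normalizer ((P : Subgroup C) : Set C)) 11 hN
  rw [orderOf_mk] at hho
  obtain ⟨g, hg⟩ := (Subgroup.isCyclic_iff_exists_zpowers_eq_top (P : Subgroup C)).mp (isCyclic_of_prime_card hP)
  have hgo : orderOf g = 19 := by rw [← Nat.card_zpowers, hg, hP]
  have hcomm : Commute g h := by
    have hinv : ∀ x ∈ (P : Subgroup C), h * x * h⁻¹ ∈ (P : Subgroup C) := fun x hx =>
      (mem_normalizer_iff.mp hhN x).mp hx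
    let θ := (P : Subgroup C).normalizerMonoidHom ⟨h, hhN⟩
    by_contra hne
    have hθ : θ ≠ 1 := by
      intro h1
      refine hne ?_
      have : (⟨h, hhN⟩ : normalizer ((P : Subgroup C) : Set C)) ∈ (P : Subgroup C).normalizerMonoidHom.ker := h1
      rw [(P : Subgroup C).normalizerMonoidHom_ker] at this
      exact mem_centralizer_iff.mp this g (hg ▸ mem_zpowers g)
    have h11 : θ ^ 11 = 1 := by
      rw [← map_pow, ← map_one (P : Subgroup C).normalizerMonoidHom]
      exact congrArg _ (Subtype.ext (by rw [SubgroupClass.coe_pow]; exact hho ▸ pow_orderOf_eq_one h))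
    obtain ⟨i, hi1, hi2, hi3⟩ := exists_dvd_pow_sub_one_of_action (p := 19) (q := 11) (e := 1) (by norm_num)
      (by rw [hP, pow_one]) θ hθ h11
    interval_cases i
    norm_num at hi3
  exact false_of_commute_nineteen_eleven C hidx (g := (g : G)) (h := (h : G))
    (by rw [Subgroup.orderOf_coe, hgo]) (by rw [Subgroup.orderOf_coe, hho]) (hcomm.map C.subtype)

/-- A Sylow 2-subgroup is elementary. -/
theorem exp_two (S : Sylow 2 G) : ∀ x ∈ (S : Subgroup G), x * x = 1 :=
  (exp_two_or_dihedral hn S).resolve_right fun ⟨e⟩ => not_dihedral hn S e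

end Cfsg.Agent.OrderJanko
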