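/-
The possible centralisers and automizers of elements of prime order in a simple group of order 175560.
Main results: `info3`, `info5`, `info11`, `info19`.
-/
import Cfsg.Agent.Lib.Order175560.Count

set_option autoImplicit false

namespace Cfsg.Agent.OrderJanko

open Order175560

variable {G : Type*} [Group G] [Finite G] [IsSimpleGroup G]

def list3 : List (ℕ × ℕ) := [(1, 2), (4, 2), (7, 2), (10, 2), (19, 2), (22, 2), (28, 2), (55, 2), (70, 2),
  (76, 2), (133, 2), (154, 2), (190, 2), (220, 2), (385, 2), (418, 2), (532, 2), (1045, 2), (1330, 2), (1540, 2)]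

def list5 : List (ℕ × ℕ) := [(1, 2), (6, 2), (3, 4), (11, 2), (21, 2), (66, 2), (33, 4), (76, 2), (38, 4),
  (231, 2), (266, 2), (133, 4), (836, 2), (418, 4)]

def list11 : List (ℕ × ℕ) := [(5, 2), (2, 5), (1, 10), (38, 2), (60, 2), (24, 5), (12, 10), (57, 5)]

def list19 : List (ℕ × ℕ) := [(3, 2), (2, 3), (1, 6), (22, 2), (60, 2), (40, 3), (20, 6), (231, 2), (154, 3), (77, 6)]

theorem info3 (hG : ¬ IsMulCommutative G) (hn : Nat.card G = 175560) :
    ∃ c j, Info G 3 c j ∧ (c, j) ∈ list3 :=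
  have : Fact (Nat.Prime 3) := ⟨Nat.prime_three⟩
  exists_info hG hn 3 list3 (by decide +kernel)

theorem info5 (hG : ¬ IsMulCommutative G) (hn : Nat.card G = 175560) :
    ∃ c j, Info G 5 c j ∧ (c, j) ∈ list5 :=
  have : Fact (Nat.Prime 5) := ⟨Nat.prime_five⟩
  exists_info hG hn 5 list5 (by decide +kernel)

theorem info11 (hG : ¬ IsMulCommutative G) (hn : Nat.card G = 175560) :
    ∃ c j, Info G 11 c j ∧ (c, j) ∈ list11 :=
  have : Fact (Nat.Prime 11) := ⟨by norm_num⟩
  exists_info hG hn 11 list11 (by decide +kernel)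

theorem info19 (hG : ¬ IsMulCommutative G) (hn : Nat.card G = 175560) :
    ∃ c j, Info G 19 c j ∧ (c, j) ∈ list19 :=
  have : Fact (Nat.Prime 19) := ⟨by norm_num⟩
  exists_info hG hn 19 list19 (by decide +kernel)

end Cfsg.Agent.OrderJanko
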