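/-
The elementary Sylow 2-subgroup: an element of order 7 permutes its involutions transitively and it is
its own centraliser.
Main results: `exists_seven`, `one_class`, `centralizer_sylow`.
-/
import Cfsg.Agent.Lib.OrderJanko.Dihedral
import Cfsg.Agent.Lib.OrderJanko.Lists

set_option autoImplicit false

namespace Cfsg.Agent.OrderJanko

open Cfsg Subgroup SmallOrders

theorem prime_cases {p : ℕ} (hp : p.Prime) (h : p ∣ 21945) : p = 3 ∨ p = 5 ∨ p = 7 ∨ p = 11 ∨ p = 19 := by
  rw [show (21945 : ℕ) = 3 * 5 * 7 * 11 * 19 by norm_num] at h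
  rcases hp.dvd_mul.mp h with h | h
  · rcases hp.dvd_mul.mp h with h | h
    · rcases hp.dvd_mul.mp h with h | h
      · rcases hp.dvd_mul.mp h with h | h
        · exact Or.inl ((Nat.prime_dvd_prime_iff_eq hp Nat.prime_three).mp h)
        · exact Or.inr (Or.inl ((Nat.prime_dvd_prime_iff_eq hp Nat.prime_five).mp h))
      · exact Or.inr (Or.inr (Or.inl ((Nat.prime_dvd_prime_iff_eq hp (by norm_num)).mp h)))
    · exact Or.inr (Or.inr (Or.inr (Or.inl ((Nat.prime_dvd_prime_iff_eq hp (by norm_num)).mp h))))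
  · exact Or.inr (Or.inr (Or.inr (Or.inr ((Nat.prime_dvd_prime_iff_eq hp (by norm_num)).mp h))))

variable {G : Type*} [Group G] [Finite G] [IsSimpleGroup G] (hn : Nat.card G = 175560)
include hn

omit [Group G] [Finite G] [IsSimpleGroup G] in
theorem not_sq_dvd {p : ℕ} (hp : p.Prime) (hp2 : p ≠ 2) : ¬ p * p ∣ Nat.card G := by
  intro h
  rw [hn] at h
  have h1 : p ∣ 8 * 21945 := (dvd_mul_right p p).trans (by norm_num; exact h)
  have h2 : p ∣ 21945 := (hp.dvd_mul.mp h1).resolve_left fun h8 =>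
    hp2 ((Nat.prime_dvd_prime_iff_eq hp Nat.prime_two).mp (hp.dvd_of_dvd_pow (show p ∣ 2 ^ 3 from h8)))
  rcases prime_cases hp h2 with rfl | rfl | rfl | rfl | rfl <;> norm_num at h

theorem comm_sylow (S : Sylow 2 G) : IsMulCommutative (S : Subgroup G) := by
  refine ⟨⟨fun a b => Subtype.ext ?_⟩⟩
  have ha := exp_two hn S _ a.2
  have hb := exp_two hn S _ b.2
  have hab := exp_two hn S _ (mul_mem a.2 b.2)
  show (a : G) * b = b * a
  calc (a : G) * b = ((a : G) * b)⁻¹ := (inv_eq_of_mul_eq_one_right hab).symm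
    _ = (b : G) * a := by rw [mul_inv_rev, inv_eq_of_mul_eq_one_right ha, inv_eq_of_mul_eq_one_right hb]

/-- An element of order seven normalising the Sylow 2-subgroup and fixing none of its involutions. -/
theorem exists_seven (S : Sylow 2 G) : ∃ a : G, orderOf a = 7 ∧
    a ∈ normalizer ((S : Subgroup G) : Set G) ∧ a ∉ centralizer ((S : Subgroup G) : Set G) := by
  classical
  have : Fact (Nat.Prime 2) := ⟨Nat.prime_two⟩
  have : Fact (Nat.Prime 3) := ⟨Nat.prime_three⟩
  have : Fact (Nat.Prime 7) := ⟨by norm_num⟩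
  have hG := not_comm hn
  have h8 := card_sylow_two hn S
  have hab := comm_sylow hn S
  set N := normalizer ((S : Subgroup G) : Set G) with hN
  let θ : N →* MulAut (S : Subgroup G) := (S : Subgroup G).normalizerMonoidHom
  have hker : ∀ x : N, θ x = 1 ↔ (x : G) ∈ centralizer ((S : Subgroup G) : Set G) := fun x => by
    rw [← MonoidHom.mem_ker, (S : Subgroup G).normalizerMonoidHom_ker]; rfl
  have hodd : ¬ 2 ∣ Nat.card θ.range := by
    have hSk : (S : Subgroup G).subgroupOf N ≤ θ.ker := fun x hx =>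
      (hker x).mpr (mem_centralizer_iff.mpr fun y hy =>
        congrArg Subtype.val (mul_comm' (⟨y, hy⟩ : (S : Subgroup G)) ⟨x, hx⟩))
    rw [← index_ker]
    intro h
    have h2 : 2 ∣ ((S : Subgroup G).subgroupOf N).index := h.trans (index_dvd_of_le hSk)
    exact S.not_dvd_index (h2.trans (relIndex_dvd_index_of_le (le_normalizer (H := (S : Subgroup G)))))
  by_cases h7 : 7 ∣ Nat.card θ.range
  · obtain ⟨⟨r, x, rfl⟩, hr⟩ := exists_prime_orderOf_dvd_card' 7 h7
    replace hr : orderOf (θ x) = 7 := (Subgroup.orderOf_mk (G := MulAut (S : Subgroup G)) (θ x) _).symm.trans hr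
    obtain ⟨k, hk⟩ : 7 ∣ orderOf x := hr ▸ orderOf_map_dvd θ x
    have hk7 : ¬ 7 ∣ k := fun h => not_sq_dvd hn (p := 7) (by norm_num) (by norm_num)
      ((Nat.mul_dvd_mul_left 7 h).trans (hk ▸ (Subgroup.orderOf_coe x) ▸ orderOf_dvd_natCard (x : G)))
    have hk0 : 0 < k := by
      rcases Nat.eq_zero_or_pos k with rfl | h
      · exact absurd (dvd_zero 7) hk7
      · exact h
    refine ⟨((x ^ k : N) : G), ?_, (x ^ k).2, fun h => ?_⟩
    · rw [Subgroup.orderOf_coe, orderOf_pow_of_dvd hk0.ne' (hk ▸ dvd_mul_left k 7), hk, Nat.mul_div_cancel _ hk0]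
    · have h1 : θ (x ^ k) = 1 := (hker _).mpr h
      rw [map_pow] at h1
      have := orderOf_dvd_of_pow_eq_one h1
      rw [hr] at this
      exact hk7 this
  exfalso
  have h3 : IsPGroup 3 θ.range := by
    refine IsPGroup.of_card (Nat.eq_prime_pow_of_unique_prime_dvd Nat.card_pos.ne' fun {q} hq hqd => ?_)
    have := Fact.mk hq
    obtain ⟨⟨r, x, rfl⟩, hr⟩ := exists_prime_orderOf_dvd_card' q hqd
    replace hr : orderOf (θ x) = q := (Subgroup.orderOf_mk (G := MulAut (S : Subgroup G)) (θ x) _).symm.trans hr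
    obtain ⟨i, hi1, hi2, hi3⟩ := exists_dvd_pow_sub_one_of_action (p := 2) (q := q) (e := 3)
      (fun h => hodd (h ▸ hqd)) (h8.trans (by norm_num)) (θ x)
      (fun h => hq.ne_one (by rw [← hr, h, orderOf_one])) (hr ▸ pow_orderOf_eq_one (θ x))
    interval_cases i
    · norm_num at hi3; exact absurd hi3 hq.ne_one
    · exact (Nat.prime_dvd_prime_iff_eq hq Nat.prime_three).mp (by simpa using hi3)
    · exact absurd ((Nat.prime_dvd_prime_iff_eq hq (by norm_num : Nat.Prime 7)).mp (by simpa using hi3)) fun h =>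
        h7 (h ▸ hqd)
  have hmod := h3.card_modEq_card_fixedPoints (S : Subgroup G)
  rw [h8] at hmod
  have h1 : 1 < Nat.card (MulAction.fixedPoints θ.range (S : Subgroup G)) := by
    unfold Nat.ModEq at hmod
    omega
  have := Finite.one_lt_card_iff_nontrivial.mp h1
  obtain ⟨u, hu⟩ := exists_ne (⟨1, fun r => map_one (r : MulAut (S : Subgroup G))⟩ : MulAction.fixedPoints θ.range (S : Subgroup G))
  have h2 := eq_one_of_fixed hG S u.1.2 fun n hn' => by
    have := congrArg Subtype.val (u.2 ⟨θ ⟨n, hn'⟩, ⟨n, hn'⟩, rfl⟩)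
    exact this
  exact hu (Subtype.ext (Subtype.ext h2))

omit [IsSimpleGroup G] in
/-- Elements of order seven permute the involutions of the Sylow 2-subgroup transitively. -/
theorem seven_transitive (S : Sylow 2 G) {a : G} (ha : orderOf a = 7)
    (haN : a ∈ normalizer ((S : Subgroup G) : Set G)) (haC : a ∉ centralizer ((S : Subgroup G) : Set G)) :
    (∀ u ∈ (S : Subgroup G), a * u * a⁻¹ = u → u = 1) ∧
      ∀ u ∈ (S : Subgroup G), u ≠ 1 → ∀ w ∈ (S : Subgroup G), w ≠ 1 → ∃ n : ℕ, a ^ n * u * (a ^ n)⁻¹ = w := by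
  classical
  have : Fact (Nat.Prime 7) := ⟨by norm_num⟩
  have : Fact (Nat.Prime 2) := ⟨Nat.prime_two⟩
  have h8 := card_sylow_two hn S
  have hpow : ∀ n : ℕ, ∀ u ∈ (S : Subgroup G), a ^ n * u * (a ^ n)⁻¹ ∈ (S : Subgroup G) := fun n u hu =>
    (mem_normalizer_iff.mp (pow_mem haN n) u).mp hu
  let r : MulAut (S : Subgroup G) := (S : Subgroup G).normalizerMonoidHom ⟨a, haN⟩
  have hrn : ∀ (n : ℕ) (u : (S : Subgroup G)), ((r ^ n) • u : (S : Subgroup G)).1 = a ^ n * u * (a ^ n)⁻¹ := by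
    intro n u
    rw [show r ^ n = (S : Subgroup G).normalizerMonoidHom (⟨a, haN⟩ ^ n) from (map_pow _ _ _).symm]
    rfl
  have hr1 : r ≠ 1 := fun h => haC <| by
    have : (⟨a, haN⟩ : normalizer ((S : Subgroup G) : Set G)) ∈ (S : Subgroup G).normalizerMonoidHom.ker := h
    rw [(S : Subgroup G).normalizerMonoidHom_ker] at this
    exact this
  have hro : orderOf r = 7 := orderOf_eq_prime (by
    rw [← map_pow, show (⟨a, haN⟩ : normalizer ((S : Subgroup G) : Set G)) ^ 7 = 1 from
      Subtype.ext (by rw [SubgroupClass.coe_pow, ← ha]; exact pow_orderOf_eq_one a), map_one]) hr1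
  have h1 := card_fixed_mod (X := (S : Subgroup G)) hro
  rw [h8] at h1
  have h2 := card_fixed_le (X := (S : Subgroup G)) r
  rw [h8] at h2
  have h3 : Nat.card {q : (S : Subgroup G) // r • q = q} ≠ 8 := fun h => hr1 <| MulEquiv.ext fun q => by
    obtain ⟨s, hs⟩ := ((Subtype.val_injective (p := fun q : (S : Subgroup G) => r • q = q)).bijective_of_nat_card_le
      (by rw [h, h8])).2 q
    exact hs ▸ s.2
  have hfix : ∀ u : (S : Subgroup G), r • u = u → u = 1 := by
    intro u hu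
    have hone : Nat.card {q : (S : Subgroup G) // r • q = q} = 1 := by omega
    obtain ⟨hsub, -⟩ := Nat.card_eq_one_iff_unique.mp hone
    exact congrArg Subtype.val
      (hsub.elim (⟨u, hu⟩ : {q : (S : Subgroup G) // r • q = q}) ⟨1, map_one r⟩)
  refine ⟨fun u hu h => congrArg Subtype.val (hfix ⟨u, hu⟩ (Subtype.ext ?_)), ?_⟩
  · have := hrn 1 ⟨u, hu⟩
    rw [pow_one, pow_one] at this
    exact this.trans h
  intro u hu hu1 w hw hw1
  set u' : (S : Subgroup G) := ⟨u, hu⟩ with hu'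
  have hnf : r • u' ≠ u' := fun h => hu1 (congrArg Subtype.val (hfix u' h))
  let f : Fin 7 → {q : (S : Subgroup G) // q ≠ 1} := fun i => ⟨(r ^ i.1) • u', fun h =>
    hu1 (congrArg Subtype.val (smul_left_cancel (r ^ i.1) (h.trans (map_one (r ^ i.1)).symm)))⟩
  have key : ∀ i j : Fin 7, i.1 ≤ j.1 → (r ^ i.1) • u' = (r ^ j.1) • u' → i = j := by
    intro i j hij e
    rcases Nat.eq_or_lt_of_le hij with h | h
    · exact Fin.ext h
    rw [show j.1 = i.1 + (j.1 - i.1) by omega, pow_add, mul_smul] at e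
    exact absurd (smul_eq_of_pow_smul_eq hro (k := j.1 - i.1) (by omega) (by omega) (smul_left_cancel _ e).symm) hnf
  have hinj : Function.Injective f := by
    intro i j e
    have e' := congrArg Subtype.val e
    rcases Nat.le_total i.1 j.1 with hij | hij
    · exact key i j hij e'
    · exact (key j i hij e'.symm).symm
  have hcard : Nat.card {q : (S : Subgroup G) // q ≠ 1} ≤ Nat.card (Fin 7) := by
    let := Fintype.ofFinite (S : Subgroup G)
    rw [Nat.card_fin, Nat.card_eq_fintype_card, Fintype.card_subtype_compl, Fintype.card_subtype_eq,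
      ← Nat.card_eq_fintype_card, h8]
  obtain ⟨i, hi⟩ := (hinj.bijective_of_nat_card_le hcard).2 ⟨⟨w, hw⟩, fun h => hw1 (congrArg Subtype.val h)⟩
  exact ⟨i.1, (hrn i.1 u').symm.trans (congrArg (fun q : {q : (S : Subgroup G) // q ≠ 1} => q.1.1) hi)⟩

omit hn [IsSimpleGroup G] in
theorem exists_conj_mem {u : G} (hu : orderOf u = 2) (S : Sylow 2 G) :
    ∃ g : G, g * u * g⁻¹ ∈ (S : Subgroup G) := by
  have : Fact (Nat.Prime 2) := ⟨Nat.prime_two⟩
  obtain ⟨P, hP⟩ := (IsPGroup.of_card (n := 1) (G := zpowers u)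
    (by rw [Nat.card_zpowers, hu, pow_one])).exists_le_sylow
  obtain ⟨g, hg⟩ := MulAction.exists_smul_eq G P S
  exact ⟨g, hg ▸ ⟨u, hP (mem_zpowers u), rfl⟩⟩

/-- All involutions are conjugate. -/
theorem one_class {u w : G} (hu : orderOf u = 2) (hw : orderOf w = 2) : ∃ g : G, g * u * g⁻¹ = w := by
  have : Fact (Nat.Prime 2) := ⟨Nat.prime_two⟩
  obtain ⟨S⟩ := (inferInstance : Nonempty (Sylow 2 G))
  obtain ⟨a, ha, haN, haC⟩ := exists_seven hn S
  obtain ⟨x, hx⟩ := exists_conj_mem hu S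
  obtain ⟨y, hy⟩ := exists_conj_mem hw S
  have h1 : ∀ z v : G, orderOf v = 2 → z * v * z⁻¹ ≠ 1 := fun z v hv h => by
    rw [conj_eq_one_iff.mp h, orderOf_one] at hv; omega
  obtain ⟨n, hn'⟩ := (seven_transitive hn S ha haN haC).2 _ hx (h1 x u hu) _ hy (h1 y w hw)
  refine ⟨y⁻¹ * a ^ n * x, ?_⟩
  calc y⁻¹ * a ^ n * x * u * (y⁻¹ * a ^ n * x)⁻¹ = y⁻¹ * (a ^ n * (x * u * x⁻¹) * (a ^ n)⁻¹) * y := by group
    _ = w := by rw [hn']; group

/-- The Sylow 2-subgroup is its own centraliser. -/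
theorem centralizer_sylow (S : Sylow 2 G) : centralizer ((S : Subgroup G) : Set G) = (S : Subgroup G) := by
  classical
  have : Fact (Nat.Prime 2) := ⟨Nat.prime_two⟩
  have : Fact (Nat.Prime 7) := ⟨by norm_num⟩
  have hG := not_comm hn
  have hab := comm_sylow hn S
  have h8 := card_sylow_two hn S
  have hSC : (S : Subgroup G) ≤ centralizer ((S : Subgroup G) : Set G) := fun x hx =>
    mem_centralizer_iff.mpr fun y hy => congrArg Subtype.val (mul_comm' (⟨y, hy⟩ : (S : Subgroup G)) ⟨x, hx⟩)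
  set C := centralizer ((S : Subgroup G) : Set G) with hC
  by_contra hne
  obtain ⟨k, hk⟩ : 8 ∣ Nat.card C := h8 ▸ card_dvd_of_le hSC
  have hk' : k ∣ 21945 := by
    have := C.card_subgroup_dvd_card
    rw [hn, hk, show (175560 : ℕ) = 8 * 21945 by norm_num] at this
    exact Nat.dvd_of_mul_dvd_mul_left (by norm_num) this
  have hk1 : k ≠ 1 := fun h => hne (eq_of_le_of_card_ge hSC (by rw [hk, h8, h])).symm
  obtain ⟨p, hp, hpk⟩ := Nat.exists_prime_and_dvd hk1
  have := Fact.mk hp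
  have hp2 : p ≠ 2 := fun h => absurd ((h ▸ hpk).trans hk' : 2 ∣ 21945) (by norm_num)
  set N := normalizer ((S : Subgroup G) : Set G) with hNdef
  have hCN : C ≤ N := centralizer_le_normalizer _
  let C₀ := C.subgroupOf N
  have hC₀ : C₀.Normal := by
    have := (S : Subgroup G).normalizerMonoidHom.normal_ker
    rw [(S : Subgroup G).normalizerMonoidHom_ker] at this
    exact this
  obtain ⟨a, ha, haN, haC⟩ := exists_seven hn S
  have h7C : ¬ 7 ∣ Nat.card C₀ := by
    intro h
    obtain ⟨c, hc⟩ := exists_prime_orderOf_dvd_card' (G := C₀) 7 h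
    have hco : orderOf (c : N) = 7 := by rw [Subgroup.orderOf_coe, hc]
    have hao : orderOf (⟨a, haN⟩ : N) = 7 := by rw [orderOf_mk, ha]
    have h49 : ¬ 7 * 7 ∣ Nat.card N := fun h => not_sq_dvd hn (p := 7) (by norm_num) (by norm_num)
      (h.trans N.card_subgroup_dvd_card)
    have hfac : (Nat.card N).factorization 7 = 1 := by
      have h7 : 7 ∣ Nat.card N := hao ▸ orderOf_dvd_natCard _
      have h1 : 1 ≤ (Nat.card N).factorization 7 :=
        ((Fact.out : Nat.Prime 7).dvd_iff_one_le_factorization Nat.card_pos.ne').mp h7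
      by_contra h2
      exact h49 ((pow_two 7) ▸ (Nat.pow_dvd_pow 7 (by omega : 2 ≤ (Nat.card N).factorization 7)).trans
        (Nat.ordProj_dvd _ _))
    let P : Sylow 7 N := Sylow.ofCard (zpowers (c : N)) (by rw [Nat.card_zpowers, hco, hfac, pow_one])
    let Q : Sylow 7 N := Sylow.ofCard (zpowers (⟨a, haN⟩ : N)) (by rw [Nat.card_zpowers, hao, hfac, pow_one])
    obtain ⟨g, hg⟩ := MulAction.exists_smul_eq N P Q
    have : (⟨a, haN⟩ : N) ∈ (g • P : Sylow 7 N) := by rw [hg]; exact mem_zpowers (⟨a, haN⟩ : N)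
    obtain ⟨y, hy, hye⟩ := this
    have hyC : y ∈ C₀ := zpowers_le.mpr c.2 hy
    exact haC (show (⟨a, haN⟩ : N) ∈ C₀ from hye ▸ hC₀.conj_mem y hyC g)
  -- a Sylow subgroup of the centraliser and its normaliser
  obtain ⟨P⟩ := (inferInstance : Nonempty (Sylow p C₀))
  have hpC : p ∣ Nat.card C₀ := by
    rw [Nat.card_congr (subgroupOfEquivOfLe hCN).toEquiv, hk]; exact dvd_mul_of_dvd_right hpk 8
  have hPcard : Nat.card (P : Subgroup C₀) = p := by
    obtain ⟨e, he⟩ := IsPGroup.iff_card.mp P.isPGroup'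
    have h1 : e ≠ 0 := fun h0 => P.ne_bot_of_dvd_card hpC (eq_bot_of_card_eq _ (by rw [he, h0, pow_zero]))
    have h2 : e < 2 := by
      by_contra h
      exact not_sq_dvd hn hp hp2 ((pow_two p) ▸ (Nat.pow_dvd_pow p (by omega : 2 ≤ e)).trans
        (he ▸ (card_subgroup_dvd_card _).trans ((card_subgroup_dvd_card _).trans N.card_subgroup_dvd_card)))
    rw [he, show e = 1 by omega, pow_one]
  have hsup := Sylow.normalizer_sup_eq_top P
  set M := normalizer (((P : Subgroup C₀).map C₀.subtype : Subgroup N) : Set N) with hM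
  have h7M : 7 ∣ Nat.card M := by
    have hsurj : Function.Surjective ((QuotientGroup.mk' C₀).comp M.subtype) := by
      intro q
      obtain ⟨n, rfl⟩ := QuotientGroup.mk'_surjective C₀ q
      obtain ⟨m, hm, c, hc, rfl⟩ : ∃ m ∈ M, ∃ c ∈ C₀, m * c = n := by
        have hmem : n ∈ M ⊔ C₀ := by rw [hsup]; exact mem_top n
        rwa [← SetLike.mem_coe, Subgroup.mul_normal M C₀, Set.mem_mul] at hmem
      exact ⟨⟨m, hm⟩, QuotientGroup.eq.mpr (by simpa using hc)⟩
    refine dvd_trans ?_ (card_dvd_of_surjective _ hsurj)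
    have h1 : 7 ∣ C₀.index * Nat.card C₀ := by
      rw [index_mul_card, ← ha, ← orderOf_mk a haN]; exact orderOf_dvd_natCard _
    rw [← index_eq_card]
    exact ((Fact.out : Nat.Prime 7).dvd_mul.mp h1).resolve_right h7C
  obtain ⟨⟨b, hbM⟩, hb⟩ := exists_prime_orderOf_dvd_card' (G := M) 7 h7M
  rw [orderOf_mk] at hb
  obtain ⟨x, hx⟩ := (Subgroup.isCyclic_iff_exists_zpowers_eq_top (P : Subgroup C₀)).mp (isCyclic_of_prime_card hPcard)
  have hxo : orderOf x = p := by rw [← Nat.card_zpowers, hx, hPcard]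
  set y : G := ((x : N) : G) with hy
  have hyo : orderOf y = p := by rw [hy, Subgroup.orderOf_coe, Subgroup.orderOf_coe, hxo]
  have hyC : y ∈ C := x.2
  have hp7 : p ≠ 7 := fun h => h7C (h ▸ hpC)
  -- the centraliser of `y` contains `S` and `b`
  have hbx : Commute ((b : N)) (x : N) := by
    let R := (P : Subgroup C₀).map C₀.subtype
    let φ : MulAut R := R.normalizerMonoidHom ⟨b, hbM⟩
    by_contra hne
    have hR : Nat.card R = p ^ 1 := by rw [pow_one, ← hPcard, card_map_of_injective C₀.subtype_injective]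
    have hxR : (x : N) ∈ R := ⟨x, hx ▸ mem_zpowers x, rfl⟩
    have hφ : φ ≠ 1 := by
      intro h1
      have : (⟨b, hbM⟩ : M) ∈ R.normalizerMonoidHom.ker := h1
      rw [R.normalizerMonoidHom_ker] at this
      exact hne (mem_centralizer_iff.mp this (x : N) hxR).symm
    have h11 : φ ^ 7 = 1 := by
      rw [← map_pow, ← map_one R.normalizerMonoidHom]
      exact congrArg _ (Subtype.ext (by rw [SubgroupClass.coe_pow]; exact hb ▸ pow_orderOf_eq_one b))
    obtain ⟨i, hi1, hi2, hi3⟩ := exists_dvd_pow_sub_one_of_action (p := p) (q := 7) (e := 1) hp7.symm hR φ hφ h11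
    interval_cases i
    have h2 : p ∣ 21945 := hpk.trans hk'
    rcases prime_cases hp h2 with rfl | rfl | rfl | rfl | rfl <;> omega
  have h56 : 56 ∣ Nat.card (centralizer ({y} : Set G)) := by
    refine Nat.Coprime.mul_dvd_of_dvd_of_dvd (show Nat.Coprime 8 7 by norm_num) ?_ ?_
    · rw [← h8]
      refine card_dvd_of_le fun s hs => mem_centralizer_singleton_iff.mpr ?_
      exact mem_centralizer_iff.mp hyC s hs
    · have hbo : orderOf ((b : N) : G) = 7 := by rw [Subgroup.orderOf_coe, hb]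
      rw [← hbo]
      exact orderOf_dvd_natCard _ (mem_centralizer_singleton_iff.mpr (hbx.map N.subtype).eq)
  have hcases : p = 3 ∨ p = 5 ∨ p = 11 ∨ p = 19 := by
    rcases prime_cases hp (hpk.trans hk') with h | h | h | h | h <;> omega
  rcases hcases with rfl | rfl | rfl | rfl
  · obtain ⟨c, j, I, hL⟩ := info3 hG hn
    rw [I.cent y hyo] at h56
    exact (show ∀ q ∈ list3, ¬ 56 ∣ 3 * q.1 by decide) _ hL h56
  · obtain ⟨c, j, I, hL⟩ := info5 hG hn
    rw [I.cent y hyo] at h56
    exact (show ∀ q ∈ list5, ¬ 56 ∣ 5 * q.1 by decide) _ hL h56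
  · obtain ⟨c, j, I, hL⟩ := info11 hG hn
    rw [I.cent y hyo] at h56
    exact (show ∀ q ∈ list11, ¬ 56 ∣ 11 * q.1 by decide) _ hL h56
  · obtain ⟨c, j, I, hL⟩ := info19 hG hn
    rw [I.cent y hyo] at h56
    exact (show ∀ q ∈ list19, ¬ 56 ∣ 19 * q.1 by decide) _ hL h56

end Cfsg.Agent.OrderJanko
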