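/-
Centralisers of involutions against the normaliser of the Sylow 2-subgroup, and subgroups of prime order
normalised by the Sylow 2-subgroup.
Main results: `normCent_dvd`, `normCent_eq`, `exists_invariant`, `unique_invariant`, `kernel_index_two`.
-/
import Cfsg.Agent.Lib.OrderJanko.Sylow8

set_option autoImplicit false

namespace Cfsg.Agent.OrderJanko

open Cfsg Subgroup SmallOrders

variable {G : Type*} [Group G] [Finite G]

omit [Finite G] in
theorem mul_self_of_orderOf_two {u : G} (hu : orderOf u = 2) : u * u = 1 := by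
  have h := pow_orderOf_eq_one u
  rwa [hu, pow_two] at h

theorem card_centralizer_conj (g u : G) :
    Nat.card (centralizer ({g * u * g⁻¹} : Set G)) = Nat.card (centralizer ({u} : Set G)) := by
  have h1 := Char.card_conjugates_mul_card_centralizer (g * u * g⁻¹)
  have h2 := Char.card_conjugates_mul_card_centralizer u
  have hc : IsConj (g * u * g⁻¹) u := (isConj_iff.mpr ⟨g, rfl⟩).symm
  have e : {x : G | IsConj (g * u * g⁻¹) x} = {x : G | IsConj u x} := by
    ext x; exact ⟨fun h => hc.symm.trans h, fun h => hc.trans h⟩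
  rw [e] at h1
  have h3 : 0 < Nat.card {x : G | IsConj u x} :=
    Nat.card_pos_iff.mpr ⟨⟨⟨u, IsConj.refl u⟩⟩, inferInstance⟩
  exact Nat.eq_of_mul_eq_mul_left h3 (h1.trans h2.symm)

variable [IsSimpleGroup G] (hn : Nat.card G = 175560)
include hn

omit [IsSimpleGroup G] [Finite G] in
theorem two_dvd_iff {K : Subgroup G} {k : ℕ} (hk : Nat.card K = 8 * k) : k ∣ 21945 := by
  have := K.card_subgroup_dvd_card
  rw [hn, hk, show (175560 : ℕ) = 8 * 21945 by norm_num] at this
  exact Nat.dvd_of_mul_dvd_mul_left (by norm_num) this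

theorem orderOf_mem_sylow (S : Sylow 2 G) {u : G} (hu : u ∈ (S : Subgroup G)) (h1 : u ≠ 1) : orderOf u = 2 :=
  have : Fact (Nat.Prime 2) := ⟨Nat.prime_two⟩
  orderOf_eq_prime (by rw [pow_two]; exact exp_two hn S u hu) h1

theorem le_cent (S : Sylow 2 G) {u : G} (hu : u ∈ (S : Subgroup G)) :
    (S : Subgroup G) ≤ centralizer ({u} : Set G) := fun x hx => by
  have h : x ∈ centralizer ((S : Subgroup G) : Set G) := by rw [centralizer_sylow hn S]; exact hx
  exact mem_centralizer_singleton_iff.mpr (mem_centralizer_iff.mp h u hu).symm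

/-- An element of prime order normalising `S` and fixing an involution of `S` is in `S` or has order three. -/
theorem prime_of_fix (S : Sylow 2 G) {q : ℕ} (hq : q.Prime) {x : G} (hx : orderOf x = q)
    (hxN : x ∈ normalizer ((S : Subgroup G) : Set G)) {t : G} (ht : t ∈ (S : Subgroup G)) (ht1 : t ≠ 1)
    (hfix : Commute x t) : x ∈ (S : Subgroup G) ∨ q = 3 := by
  have : Fact (Nat.Prime 2) := ⟨Nat.prime_two⟩
  have := Fact.mk hq
  by_cases hq2 : q = 2
  · left
    subst hq2
    have hp : IsPGroup 2 ↥((S : Subgroup G) ⊔ zpowers x) :=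
      S.2.to_sup_of_normal_left' (IsPGroup.of_card (n := 1) (by rw [Nat.card_zpowers, hx, pow_one]))
        (zpowers_le.mpr hxN)
    rw [← S.3 hp le_sup_left]
    exact mem_sup_right (mem_zpowers x)
  by_cases hxC : x ∈ centralizer ((S : Subgroup G) : Set G)
  · left
    rwa [centralizer_sylow hn S] at hxC
  right
  let φ : MulAut (S : Subgroup G) := (S : Subgroup G).normalizerMonoidHom ⟨x, hxN⟩
  have hφ : φ ≠ 1 := by
    intro h1
    have : (⟨x, hxN⟩ : normalizer ((S : Subgroup G) : Set G)) ∈ (S : Subgroup G).normalizerMonoidHom.ker := h1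
    rw [(S : Subgroup G).normalizerMonoidHom_ker] at this
    exact hxC this
  have hpow : φ ^ q = 1 := by
    rw [← map_pow, ← map_one (S : Subgroup G).normalizerMonoidHom]
    exact congrArg _ (Subtype.ext (by rw [SubgroupClass.coe_pow]; exact hx ▸ pow_orderOf_eq_one x))
  obtain ⟨i, hi1, hi2, hi3⟩ := exists_dvd_pow_sub_one_of_action (p := 2) (q := q) (e := 3) hq2
    ((card_sylow_two hn S).trans (by norm_num)) φ hφ hpow
  interval_cases i
  · exact absurd (Nat.dvd_one.mp (by simpa using hi3)) hq.ne_one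
  · exact (Nat.prime_dvd_prime_iff_eq hq Nat.prime_three).mp (by simpa using hi3)
  · exfalso
    have h7 : q = 7 := (Nat.prime_dvd_prime_iff_eq hq (by norm_num)).mp (by simpa using hi3)
    exact ht1 ((seven_transitive hn S (h7 ▸ hx) hxN hxC).1 t ht (mul_inv_eq_iff_eq_mul.mpr hfix.eq))

/-- The normaliser of `S` in the centraliser of one of its involutions has order dividing 24. -/
theorem normCent_dvd (S : Sylow 2 G) {t : G} (ht : t ∈ (S : Subgroup G)) (ht1 : t ≠ 1) :
    Nat.card ↥(normalizer ((S : Subgroup G) : Set G) ⊓ centralizer ({t} : Set G)) ∣ 24 := by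
  set K := normalizer ((S : Subgroup G) : Set G) ⊓ centralizer ({t} : Set G)
  have hd : Nat.card K ∣ 24 * 7315 := by
    have := K.card_subgroup_dvd_card
    rw [hn] at this
    exact this.trans (dvd_of_eq (by norm_num))
  refine (Nat.Coprime.dvd_of_dvd_mul_right ?_ hd)
  refine Nat.coprime_of_dvd fun q hq hqK hq' => ?_
  have := Fact.mk hq
  obtain ⟨x, hx⟩ := exists_prime_orderOf_dvd_card' (G := K) q hqK
  have hq2 : q ≠ 2 := fun h => absurd (h ▸ hq' : 2 ∣ 7315) (by norm_num)
  rcases prime_of_fix hn S hq (x := (x : G)) (by rw [Subgroup.orderOf_coe, hx]) x.2.1 ht ht1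
    (mem_centralizer_singleton_iff.mp x.2.2) with h | h
  · have h1 : orderOf (x : G) ∣ 2 := orderOf_dvd_of_pow_eq_one (by rw [pow_two]; exact exp_two hn S _ h)
    rw [Subgroup.orderOf_coe, hx] at h1
    exact hq2 ((Nat.prime_dvd_prime_iff_eq hq Nat.prime_two).mp h1)
  · exact absurd (h ▸ hq' : 3 ∣ 7315) (by norm_num)

/-- Without elements of order three, `S` is self-normalising in the centraliser of its involutions. -/
theorem normCent_eq (S : Sylow 2 G) {t : G} (ht : t ∈ (S : Subgroup G)) (ht1 : t ≠ 1)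
    (h3 : ∀ x ∈ normalizer ((S : Subgroup G) : Set G) ⊓ centralizer ({t} : Set G), orderOf x ≠ 3) :
    normalizer ((S : Subgroup G) : Set G) ⊓ centralizer ({t} : Set G) = (S : Subgroup G) := by
  have : Fact (Nat.Prime 3) := ⟨Nat.prime_three⟩
  set K := normalizer ((S : Subgroup G) : Set G) ⊓ centralizer ({t} : Set G) with hK
  have hle : (S : Subgroup G) ≤ K := le_inf le_normalizer (le_cent hn S ht)
  have hd := normCent_dvd hn S ht ht1
  have hn3 : ¬ 3 ∣ Nat.card K := fun h => by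
    obtain ⟨x, hx⟩ := exists_prime_orderOf_dvd_card' (G := K) 3 h
    exact h3 x x.2 (by rw [Subgroup.orderOf_coe, hx])
  have h8 : Nat.card K ∣ 8 := Nat.Coprime.dvd_of_dvd_mul_right
    (Nat.coprime_comm.mp ((Nat.prime_three.coprime_iff_not_dvd).mpr hn3)) (hd.trans (dvd_of_eq (by norm_num : (24 : ℕ) = 8 * 3)))
  exact (eq_of_le_of_card_ge hle (card_sylow_two hn S ▸ Nat.le_of_dvd (by norm_num) h8)).symm

omit [IsSimpleGroup G] in
/-- An odd normal subgroup gives a subgroup of prime order normalised by `S`. -/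
theorem exists_invariant (S : Sylow 2 G) {C O : Subgroup G} (hSC : (S : Subgroup G) ≤ C) (hOC : O ≤ C)
    (hnorm : ∀ c ∈ C, ∀ o ∈ O, c * o * c⁻¹ ∈ O) (hodd : ¬ 2 ∣ Nat.card O) {p : ℕ} [Fact p.Prime]
    (hp : p ∣ Nat.card O) :
    ∃ P : Subgroup G, P ≤ O ∧ Nat.card P = p ∧ (S : Subgroup G) ≤ normalizer (P : Set G) := by
  have : Fact (Nat.Prime 2) := ⟨Nat.prime_two⟩
  let O' := O.subgroupOf C
  have hO' : O'.Normal := ⟨fun x hx g => hnorm g g.2 x hx⟩
  have hcard : Nat.card O' = Nat.card O := Nat.card_congr (subgroupOfEquivOfLe hOC).toEquiv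
  obtain ⟨P⟩ := (inferInstance : Nonempty (Sylow p O'))
  have hp2 : p ≠ 2 := fun h => hodd (h ▸ hp)
  have hPcard : Nat.card (P : Subgroup O') = p := by
    obtain ⟨e, he⟩ := IsPGroup.iff_card.mp P.isPGroup'
    have h1 : e ≠ 0 := fun h0 =>
      P.ne_bot_of_dvd_card (hcard.symm ▸ hp) (eq_bot_of_card_eq _ (by rw [he, h0, pow_zero]))
    have h2 : e < 2 := by
      by_contra h
      exact not_sq_dvd hn Fact.out hp2 ((pow_two p) ▸ (Nat.pow_dvd_pow p (by omega : 2 ≤ e)).trans
        (he ▸ (card_subgroup_dvd_card _).trans (hcard ▸ O.card_subgroup_dvd_card)))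
    rw [he, show e = 1 by omega, pow_one]
  have hsup := Sylow.normalizer_sup_eq_top P
  set R := (P : Subgroup O').map O'.subtype with hR
  set M := normalizer (R : Set C) with hM
  let S' : Sylow 2 C := S.subtype hSC
  have hidx : ¬ 2 ∣ M.index := by
    intro h
    have h1 : M.index ∣ Nat.card O' := by
      have e1 : ∀ c : C, ∃ o : O', ((o : C) : C ⧸ M) = (c : C ⧸ M) := by
        intro c
        have hmem : c ∈ O' ⊔ M := by rw [sup_comm, hsup]; exact mem_top c
        rw [← SetLike.mem_coe, Subgroup.normal_mul O' M, Set.mem_mul] at hmem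
        obtain ⟨o, ho, m, hm, rfl⟩ := hmem
        exact ⟨⟨o, ho⟩, QuotientGroup.eq.mpr (by simpa using hm)⟩
      have e2 : M.index = (M.subgroupOf O').index := by
        rw [index_eq_card, index_eq_card]
        refine (Nat.card_eq_of_bijective (fun q : O' ⧸ M.subgroupOf O' => Quotient.liftOn' q
          (fun o => ((o : C) : C ⧸ M)) (fun a b hab => QuotientGroup.eq.mpr (show ((a⁻¹ * b : O') : C) ∈ M from (QuotientGroup.leftRel_apply.mp hab : a⁻¹ * b ∈ M.subgroupOf O')))) ⟨?_, ?_⟩).symm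
        · intro a b
          induction a using QuotientGroup.induction_on with | _ a => ?_
          induction b using QuotientGroup.induction_on with | _ b => ?_
          exact fun hab => QuotientGroup.eq.mpr (show ((a⁻¹ * b : O') : C) ∈ M from QuotientGroup.eq.mp (show ((a : C) : C ⧸ M) = ((b : C) : C ⧸ M) from hab))
        · intro q
          induction q using QuotientGroup.induction_on with | _ c => ?_
          obtain ⟨o, ho⟩ := e1 c
          exact ⟨QuotientGroup.mk o, ho⟩
      rw [e2]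
      exact index_dvd_card _
    exact hodd (hcard ▸ h.trans h1)
  obtain ⟨T⟩ := (inferInstance : Nonempty (Sylow 2 M))
  have hT : ((T : Subgroup M).map M.subtype).index % 2 = 1 := by
    rw [← Nat.two_dvd_ne_zero, index_map_subtype]
    intro h
    exact (Nat.prime_two.dvd_mul.mp h).elim T.not_dvd_index hidx
  let T' : Sylow 2 C := (T.isPGroup'.map M.subtype).toSylow (by omega)
  obtain ⟨c, hc⟩ := MulAction.exists_smul_eq C T' S'
  let P' : Subgroup C := R.map (MulAut.conj c).toMonoidHom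
  refine ⟨P'.map C.subtype, ?_, ?_, ?_⟩
  · rintro _ ⟨_, ⟨_, ⟨o, -, rfl⟩, rfl⟩, rfl⟩
    exact hnorm c c.2 _ o.2
  · rw [card_map_of_injective C.subtype_injective, card_map_of_injective (MulEquiv.injective _), hR,
      card_map_of_injective O'.subtype_injective, hPcard]
  · intro s hs
    have hs' : (⟨s, hSC hs⟩ : C) ∈ c • T' := hc ▸ hs
    obtain ⟨t, ht, hte⟩ := hs'
    obtain ⟨m, -, rfl⟩ := ht
    refine mem_normalizer_fintype ?_
    rintro _ ⟨_, ⟨r, hr, rfl⟩, rfl⟩
    have hm : (m : C) * r * (m : C)⁻¹ ∈ R := (mem_normalizer_iff.mp m.2 r).mp hr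
    refine ⟨_, ⟨_, hm, rfl⟩, ?_⟩
    have hs2 : s = (c : G) * (m : C) * (c : G)⁻¹ := (congrArg Subtype.val hte).symm
    show (c : G) * (((m : C) : G) * r * ((m : C) : G)⁻¹) * (c : G)⁻¹ = s * ((c : G) * r * (c : G)⁻¹) * s⁻¹
    rw [hs2]
    group

omit [IsSimpleGroup G] in
/-- Where `S` is self-normalising, there is at most one subgroup of each prime order normalised by `S`. -/
theorem unique_invariant (S : Sylow 2 G) {M : Subgroup G} (hSM : (S : Subgroup G) ≤ M)
    (hNM : ∀ x ∈ M, x ∈ normalizer ((S : Subgroup G) : Set G) → x ∈ (S : Subgroup G)) {p : ℕ}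
    [Fact p.Prime] (hp2 : p ≠ 2) {P Q : Subgroup G} (hP : P ≤ M) (hQ : Q ≤ M) (hPc : Nat.card P = p)
    (hQc : Nat.card Q = p) (hPS : (S : Subgroup G) ≤ normalizer (P : Set G))
    (hQS : (S : Subgroup G) ≤ normalizer (Q : Set G)) : P = Q := by
  have : Fact (Nat.Prime 2) := ⟨Nat.prime_two⟩
  have hfac : (Nat.card M).factorization p = 1 := by
    have h1 : p ∣ Nat.card M := hPc ▸ card_dvd_of_le hP
    have h2 : 1 ≤ (Nat.card M).factorization p :=
      ((Fact.out : p.Prime).dvd_iff_one_le_factorization Nat.card_pos.ne').mp h1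
    by_contra h3
    exact not_sq_dvd hn Fact.out hp2 ((pow_two p) ▸ (Nat.pow_dvd_pow p
      (by omega : 2 ≤ (Nat.card M).factorization p)).trans ((Nat.ordProj_dvd _ _).trans M.card_subgroup_dvd_card))
  let A : Sylow p M := Sylow.ofCard (P.subgroupOf M) (by
    rw [Nat.card_congr (subgroupOfEquivOfLe hP).toEquiv, hPc, hfac, pow_one])
  let B : Sylow p M := Sylow.ofCard (Q.subgroupOf M) (by
    rw [Nat.card_congr (subgroupOfEquivOfLe hQ).toEquiv, hQc, hfac, pow_one])
  obtain ⟨g, hg⟩ := MulAction.exists_smul_eq M A B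
  have hgPQ : P.map (MulAut.conj (g : G)).toMonoidHom = Q := by
    refine eq_of_le_of_card_ge ?_ (by rw [card_map_of_injective (MulEquiv.injective _), hPc, hQc])
    rintro _ ⟨x, hx, rfl⟩
    have h1 : g * ⟨x, hP hx⟩ * g⁻¹ ∈ (B : Subgroup M) := by
      rw [← hg]; exact ⟨⟨x, hP hx⟩, hx, rfl⟩
    exact h1
  set K := M ⊓ normalizer (Q : Set G) with hK
  have hSK : (S : Subgroup G) ≤ K := le_inf hSM hQS
  have hgSK : ((g : G) • S : Sylow 2 G) ≤ K := by
    rintro _ ⟨s, hs, rfl⟩
    show (g : G) * s * (g : G)⁻¹ ∈ K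
    refine mem_inf.mpr ⟨mul_mem (mul_mem g.2 (hSM hs)) (inv_mem g.2), mem_normalizer_fintype ?_⟩
    intro q hq
    rw [← hgPQ] at hq ⊢
    obtain ⟨x, hx, rfl⟩ := hq
    exact ⟨s * x * s⁻¹, (mem_normalizer_iff.mp (hPS hs) x).mp hx, by
      show (g : G) * (s * x * s⁻¹) * (g : G)⁻¹ = (g : G) * s * (g : G)⁻¹ * ((g : G) * x * (g : G)⁻¹) * ((g : G) * s * (g : G)⁻¹)⁻¹
      group⟩
  obtain ⟨d, hd⟩ := MulAction.exists_smul_eq K (((g : G) • S : Sylow 2 G).subtype hgSK) (S.subtype hSK)
  have hdg : (d : G) * g ∈ (S : Subgroup G) := by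
    refine hNM _ (mul_mem d.2.1 g.2) (mem_normalizer_fintype fun s hs => ?_)
    have h1 : d * ⟨(g : G) * s * (g : G)⁻¹, hgSK ⟨s, hs, rfl⟩⟩ * d⁻¹ ∈ (S.subtype hSK : Subgroup K) := by
      rw [← hd]; exact ⟨_, (show (⟨_, _⟩ : K) ∈ ((((g : G) • S : Sylow 2 G).subtype hgSK : Sylow 2 K) : Subgroup K) from ⟨s, hs, rfl⟩), rfl⟩
    have h2 : (d : G) * ((g : G) * s * (g : G)⁻¹) * (d : G)⁻¹ ∈ (S : Subgroup G) := h1
    have h3 : (d : G) * g * s * ((d : G) * g)⁻¹ ∈ (S : Subgroup G) := by simpa [mul_assoc] using h2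
    exact h3
  refine eq_of_le_of_card_ge (fun x hx => ?_) (hPc.trans hQc.symm).ge
  have h1 : (d : G) * g * x * ((d : G) * g)⁻¹ ∈ Q := by
    have h2 : (g : G) * x * (g : G)⁻¹ ∈ Q := hgPQ ▸ ⟨x, hx, rfl⟩
    simpa [mul_assoc] using (mem_normalizer_iff.mp d.2.2 _).mp h2
  exact (mem_normalizer_iff.mp (hQS hdg) x).mpr h1

/-- The centraliser in `S` of a subgroup of odd prime order normalised by `S` has order four. -/
theorem kernel_index_two (S : Sylow 2 G) {p : ℕ} [Fact p.Prime] (hp2 : p ≠ 2) {P : Subgroup G}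
    (hPc : Nat.card P = p) (hPS : (S : Subgroup G) ≤ normalizer (P : Set G)) :
    ¬ (S : Subgroup G) ≤ centralizer (P : Set G) ∧
    ∀ a ∈ (S : Subgroup G), ∀ b ∈ (S : Subgroup G), a ∉ centralizer (P : Set G) →
      b ∉ centralizer (P : Set G) → a * b ∈ centralizer (P : Set G) := by
  have : IsCyclic P := isCyclic_of_prime_card hPc
  have hcomm : ∀ x ∈ P, ∀ y ∈ P, x * y = y * x := fun x hx y hy =>
    congrArg Subtype.val (mul_comm' (⟨x, hx⟩ : P) ⟨y, hy⟩)
  have key : ∀ a ∈ (S : Subgroup G), a ∉ centralizer (P : Set G) → ∀ x ∈ P, a * x * a⁻¹ = x⁻¹ := by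
    intro a ha hac x hx
    have hfix : ∀ y ∈ P, a * y * a⁻¹ = y → y = 1 := by
      intro y hy hay
      by_contra hy1
      have hzy : zpowers y = P := eq_of_le_of_card_ge (zpowers_le.mpr hy) (by
        rw [hPc, Nat.card_zpowers, orderOf_eq_prime (p := p) (by
          rw [← hPc]; exact congrArg Subtype.val (pow_card_eq_one' (x := (⟨y, hy⟩ : P)))) hy1])
      apply hac
      refine mem_centralizer_iff.mpr fun z hz => ?_
      rw [← hzy] at hz
      obtain ⟨i, rfl⟩ := mem_zpowers_iff.mp hz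
      exact (Commute.zpow_right (mul_inv_eq_iff_eq_mul.mp hay) i).symm
    have hax : a * x * a⁻¹ ∈ P := (mem_normalizer_iff.mp (hPS ha) x).mp hx
    have haa : a * a = 1 := exp_two hn S a ha
    refine eq_inv_of_mul_eq_one_left (hfix _ (mul_mem hax hx) ?_)
    calc a * (a * x * a⁻¹ * x) * a⁻¹ = (a * a) * x * (a * a)⁻¹ * (a * x * a⁻¹) := by group
      _ = x * (a * x * a⁻¹) := by rw [haa]; group
      _ = a * x * a⁻¹ * x := hcomm x hx _ hax
  refine ⟨fun h => ?_, fun a ha b hb hac hbc => mem_centralizer_iff.mpr fun x hx => ?_⟩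
  · have h1 : P ≤ centralizer ((S : Subgroup G) : Set G) := fun x hx =>
      mem_centralizer_iff.mpr fun s hs => (mem_centralizer_iff.mp (h hs) x hx).symm
    rw [centralizer_sylow hn S] at h1
    have h2 := card_dvd_of_le h1
    rw [hPc, card_sylow_two hn S] at h2
    exact hp2 ((Nat.prime_dvd_prime_iff_eq Fact.out Nat.prime_two).mp
      ((Fact.out : p.Prime).dvd_of_dvd_pow (show p ∣ 2 ^ 3 from h2)))
  · have h1 := key b hb hbc x hx
    have h2 := key a ha hac x⁻¹ (inv_mem hx)
    rw [inv_inv] at h2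
    have h3 : a * b * x * (a * b)⁻¹ = x := by
      calc a * b * x * (a * b)⁻¹ = a * (b * x * b⁻¹) * a⁻¹ := by group
        _ = x := by rw [h1, h2]
    exact (mul_inv_eq_iff_eq_mul.mp h3).symm

end Cfsg.Agent.OrderJanko
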