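/-
Some element of order three normalises the Sylow 2-subgroup.
Main result: `exists_three`.
-/
import Cfsg.Agent.Lib.OrderJanko.Frame
import Cfsg.Agent.Lib.Char.Orth

set_option autoImplicit false

namespace Cfsg.Agent.OrderJanko

open Cfsg Subgroup SmallOrders

variable {G : Type*} [Group G] [Finite G] [IsSimpleGroup G] (hn : Nat.card G = 175560)
include hn

/-- A normal 2-complement of the centraliser of an involution. -/
theorem exists_core (S : Sylow 2 G) {t : G} (ht : t ∈ (S : Subgroup G))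
    (hN : normalizer ((S : Subgroup G) : Set G) ⊓ centralizer ({t} : Set G) = (S : Subgroup G)) :
    ∃ O : Subgroup G, O ≤ centralizer ({t} : Set G) ∧
      (∀ c ∈ centralizer ({t} : Set G), ∀ o ∈ O, c * o * c⁻¹ ∈ O) ∧ ¬ 2 ∣ Nat.card O ∧
      Nat.card O * 8 = Nat.card (centralizer ({t} : Set G)) := by
  have : Fact (Nat.Prime 2) := ⟨Nat.prime_two⟩
  set C := centralizer ({t} : Set G) with hC
  have hSC := le_cent hn S ht
  let S' : Sylow 2 C := S.subtype hSC
  have hnc : normalizer ((S' : Subgroup C) : Set C) ≤ centralizer ((S' : Subgroup C) : Set C) := by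
    intro g hg
    have hgS : (g : G) ∈ (S : Subgroup G) := by
      rw [← hN]
      refine mem_inf.mpr ⟨mem_normalizer_fintype fun s hs => ?_, g.2⟩
      exact (mem_normalizer_iff.mp hg ⟨s, hSC hs⟩).mp hs
    have := comm_sylow hn S
    exact mem_centralizer_iff.mpr fun h hh =>
      Subtype.ext (congrArg (fun z : ↥(S : Subgroup G) => (z : G)) (mul_comm' (⟨h.1, hh⟩ : (S : Subgroup G)) ⟨g.1, hgS⟩))
  obtain ⟨O', hO', hodd, hcard⟩ : ∃ O' : Subgroup C, O'.Normal ∧ ¬ 2 ∣ Nat.card O' ∧
      Nat.card O' * Nat.card ↥(S' : Subgroup C) = Nat.card C :=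
    ⟨(MonoidHom.transferSylow S' hnc).ker, inferInstance, MonoidHom.not_dvd_card_ker_transferSylow S' hnc,
      (MonoidHom.ker_transferSylow_isComplement' S' hnc).card_mul_card⟩
  refine ⟨O'.map C.subtype, map_subtype_le O', ?_, ?_, ?_⟩
  · rintro c hc _ ⟨o, ho, rfl⟩
    exact ⟨⟨c, hc⟩ * o * ⟨c, hc⟩⁻¹, hO'.conj_mem o ho _, rfl⟩
  · rwa [card_map_of_injective C.subtype_injective]
  · rw [card_map_of_injective C.subtype_injective, ← hcard]
    congr 1
    rw [← card_sylow_two hn S]
    exact (Nat.card_congr (subgroupOfEquivOfLe hSC).toEquiv).symm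

theorem class_card {t : G} (ht : orderOf t = 2) :
    Nat.card {x : G // orderOf x = 2} * Nat.card (centralizer ({t} : Set G)) = 175560 := by
  have h := Char.card_conjugates_mul_card_centralizer t
  have e : Nat.card {x : G // orderOf x = 2} = Nat.card {x : G | IsConj t x} := by
    refine Nat.card_congr (Equiv.subtypeEquivRight fun x => ⟨fun hx => isConj_iff.mpr (one_class hn ht hx), fun hx => ?_⟩)
    obtain ⟨g, rfl⟩ := isConj_iff.mp hx
    rw [← MulAut.conj_apply, MulEquiv.orderOf_eq, ht]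
  rw [e, h, hn]

/-- The centralisers of involutions are larger than the Sylow 2-subgroup. -/
theorem centralizer_ne_eight (S : Sylow 2 G) {t : G} (ht : t ∈ (S : Subgroup G)) (ht1 : t ≠ 1) :
    Nat.card (centralizer ({t} : Set G)) ≠ 8 := by
  classical
  intro h8
  have : Fact (Nat.Prime 2) := ⟨Nat.prime_two⟩
  have hto := orderOf_mem_sylow hn S ht ht1
  have hI : Nat.card {x : G // orderOf x = 2} = 21945 := by
    have := class_card hn hto
    rw [h8] at this
    omega
  have hcS : ∀ s ∈ (S : Subgroup G), s ≠ 1 → centralizer ({s} : Set G) = (S : Subgroup G) := by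
    intro s hs hs1
    obtain ⟨g, hg⟩ := one_class hn hto (orderOf_mem_sylow hn S hs hs1)
    exact (eq_of_le_of_card_ge (le_cent hn S hs)
      (by rw [← hg, card_centralizer_conj, h8, card_sylow_two hn S])).symm
  let X := {x : G // orderOf x = 2 ∧ x ∉ (S : Subgroup G)}
  let act : MulAction ↥(S : Subgroup G) X :=
    { smul := fun s x => ⟨(s : G) * x.1 * (s : G)⁻¹, by
        rw [← MulAut.conj_apply, MulEquiv.orderOf_eq]; exact x.2.1, fun h => x.2.2 (by
          have := mul_mem (mul_mem (inv_mem s.2) h) s.2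
          simpa [mul_assoc] using this)⟩
      one_smul := fun x => Subtype.ext (by show (1 : G) * x.1 * 1⁻¹ = x.1; simp)
      mul_smul := fun a b x => Subtype.ext (by
        show ((a : G) * b) * x.1 * ((a : G) * b)⁻¹ = a * (b * x.1 * (b : G)⁻¹) * (a : G)⁻¹
        group) }
  have hfree : ∀ x : X, MulAction.stabilizer ↥(S : Subgroup G) x = ⊥ := by
    intro x
    rw [eq_bot_iff]
    intro s hs
    by_contra hs1
    have hsx : (s : G) * x.1 * (s : G)⁻¹ = x.1 := congrArg Subtype.val (MulAction.mem_stabilizer_iff.mp hs)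
    have hsne : (s : G) ≠ 1 := fun h => hs1 (mem_bot.mpr (Subtype.ext h))
    refine x.2.2 ?_
    refine (hcS s s.2 hsne).le ?_
    exact mem_centralizer_singleton_iff.mpr (mul_inv_eq_iff_eq_mul.mp hsx).symm
  have hX : 8 ∣ Nat.card X := by
    rw [Nat.card_congr (MulAction.selfEquivOrbitsQuotientProd hfree), Nat.card_prod, card_sylow_two hn S]
    exact dvd_mul_left 8 _
  have hsplit : Nat.card {x : G // orderOf x = 2} = Nat.card X + 7 := by
    have e : Nat.card {x : {x : G // orderOf x = 2} // x.1 ∈ (S : Subgroup G)} = 7 := by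
      have e1 : Nat.card {x : {x : G // orderOf x = 2} // x.1 ∈ (S : Subgroup G)} =
          Nat.card {q : ↥(S : Subgroup G) // q ≠ 1} := by
        refine Nat.card_congr ⟨fun x => ⟨⟨x.1.1, x.2⟩, fun h => ?_⟩,
          fun q => ⟨⟨q.1.1, orderOf_mem_sylow hn S q.1.2 fun h => q.2 (Subtype.ext h)⟩, q.1.2⟩,
          fun x => rfl, fun q => rfl⟩
        have h2 := x.1.2
        rw [show x.1.1 = 1 from congrArg Subtype.val h, orderOf_one] at h2
        omega
      let := Fintype.ofFinite ↥(S : Subgroup G)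
      rw [e1, Nat.card_eq_fintype_card, Fintype.card_subtype_compl, Fintype.card_subtype_eq,
        ← Nat.card_eq_fintype_card, card_sylow_two hn S]
    have e2 : Nat.card {x : {x : G // orderOf x = 2} // ¬ x.1 ∈ (S : Subgroup G)} = Nat.card X :=
      Nat.card_congr (Equiv.subtypeSubtypeEquivSubtypeInter (fun x : G => orderOf x = 2) fun x => ¬ x ∈ (S : Subgroup G))
    rw [← Nat.card_congr (Equiv.sumCompl fun x : {x : G // orderOf x = 2} => x.1 ∈ (S : Subgroup G)), Nat.card_sum, e, e2]
    omega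
  omega

/-- Some element of order three normalises the Sylow 2-subgroup. -/
theorem exists_three (S : Sylow 2 G) : ∃ v : G, orderOf v = 3 ∧ v ∈ normalizer ((S : Subgroup G) : Set G) := by
  classical
  by_contra hno
  push Not at hno
  have : Fact (Nat.Prime 2) := ⟨Nat.prime_two⟩
  have hNC : ∀ t ∈ (S : Subgroup G), t ≠ 1 →
      normalizer ((S : Subgroup G) : Set G) ⊓ centralizer ({t} : Set G) = (S : Subgroup G) := fun t ht ht1 =>
    normCent_eq hn S ht ht1 fun x hx h => hno x h (mem_inf.mp hx).1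
  have hNM : ∀ u ∈ (S : Subgroup G), u ≠ 1 → ∀ x ∈ centralizer ({u} : Set G),
      x ∈ normalizer ((S : Subgroup G) : Set G) → x ∈ (S : Subgroup G) := fun u hu hu1 x hx hxN => by
    rw [← hNC u hu hu1]; exact mem_inf.mpr ⟨hxN, hx⟩
  have h8 := card_sylow_two hn S
  obtain ⟨⟨t, ht⟩, ht1'⟩ := exists_prime_orderOf_dvd_card' (G := ↥(S : Subgroup G)) 2 (by rw [h8]; norm_num)
  have ht1 : t ≠ 1 := fun h => by
    subst h
    rw [show (⟨1, ht⟩ : ↥(S : Subgroup G)) = 1 from rfl, orderOf_one] at ht1'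
    omega
  have hto := orderOf_mem_sylow hn S ht ht1
  obtain ⟨Ot, -, -, hodd, hOt⟩ := exists_core hn S ht (hNC t ht ht1)
  have hne1 : Nat.card Ot ≠ 1 := fun h => centralizer_ne_eight hn S ht ht1 (by rw [← hOt, h, one_mul])
  obtain ⟨p, hp, hpO⟩ := Nat.exists_prime_and_dvd hne1
  have := Fact.mk hp
  have hp2 : p ≠ 2 := fun h => hodd (h ▸ hpO)
  let IsInv : G → Subgroup G → Prop := fun u P =>
    P ≤ centralizer ({u} : Set G) ∧ Nat.card P = p ∧ (S : Subgroup G) ≤ normalizer (P : Set G)
  have hex : ∀ u ∈ (S : Subgroup G), u ≠ 1 → ∃ P, IsInv u P := by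
    intro u hu hu1
    obtain ⟨O, hOC, hnorm, hodd', hO⟩ := exists_core hn S hu (hNC u hu hu1)
    obtain ⟨g, hg⟩ := one_class hn hto (orderOf_mem_sylow hn S hu hu1)
    have hpC : p ∣ Nat.card O := by
      have h1 : Nat.card O * 8 = Nat.card Ot * 8 := by rw [hO, hOt, ← hg, card_centralizer_conj]
      rw [Nat.eq_of_mul_eq_mul_right (by norm_num) h1]
      exact hpO
    obtain ⟨P, hPO, hPc, hPS⟩ := exists_invariant hn S (le_cent hn S hu) hOC hnorm hodd' hpC
    exact ⟨P, hPO.trans hOC, hPc, hPS⟩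
  have huniq : ∀ u ∈ (S : Subgroup G), u ≠ 1 → ∀ P Q, IsInv u P → IsInv u Q → P = Q := fun u hu hu1 P Q hP hQ =>
    unique_invariant hn S (le_cent hn S hu) (hNM u hu hu1) hp2 hP.1 hQ.1 hP.2.1 hQ.2.1 hP.2.2 hQ.2.2
  -- an involution centralises only one of the subgroups
  have hmove : ∀ u ∈ (S : Subgroup G), u ≠ 1 → ∀ P, IsInv u P → ∀ w ∈ (S : Subgroup G), w ≠ 1 →
      w ∈ centralizer (P : Set G) → IsInv w P := fun u _ _ P hP w _ _ hwP =>
    ⟨fun x hx => mem_centralizer_singleton_iff.mpr (mem_centralizer_iff.mp hwP x hx), hP.2.1, hP.2.2⟩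
  have hown : ∀ u ∈ (S : Subgroup G), ∀ P, IsInv u P → u ∈ centralizer (P : Set G) := fun u _ P hP =>
    mem_centralizer_iff.mpr fun x hx => mem_centralizer_singleton_iff.mp (hP.1 hx)
  obtain ⟨P, hP⟩ := hex t ht ht1
  obtain ⟨hnle, hmul⟩ := kernel_index_two hn S hp2 hP.2.1 hP.2.2
  obtain ⟨w, hw, hwP⟩ := SetLike.not_le_iff_exists.mp hnle
  have hw1 : w ≠ 1 := fun h => hwP (h ▸ one_mem _)
  obtain ⟨Q, hQ⟩ := hex w hw hw1
  obtain ⟨hnleQ, hmulQ⟩ := kernel_index_two hn S hp2 hQ.2.1 hQ.2.2
  -- a common involution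
  have hcommon : ∃ x ∈ (S : Subgroup G), x ≠ 1 ∧ x ∈ centralizer (P : Set G) ∧ x ∈ centralizer (Q : Set G) := by
    by_cases htQ : t ∈ centralizer (Q : Set G)
    · exact ⟨t, ht, ht1, hown t ht P hP, htQ⟩
    obtain ⟨s, hs, hs'⟩ := SetLike.not_le_iff_exists.mp hnle
    -- an element of the centraliser of `P` other than `1` and `t`
    obtain ⟨a, ha, ha1, hat, haP⟩ : ∃ a ∈ (S : Subgroup G), a ≠ 1 ∧ a ≠ t ∧ a ∈ centralizer (P : Set G) := by
      by_contra hnone
      push Not at hnone
      have hcov : ∀ x : ↥(S : Subgroup G), (x : G) = 1 ∨ (x : G) = t ∨ (x : G) = w ∨ (x : G) = w * t := by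
        intro x
        by_cases hxP : (x : G) ∈ centralizer (P : Set G)
        · by_cases hx1 : (x : G) = 1
          · exact Or.inl hx1
          · by_cases hxt : (x : G) = t
            · exact Or.inr (Or.inl hxt)
            · exact absurd hxP (hnone x x.2 hx1 hxt)
        · have h1 := hmul w hw x x.2 hwP hxP
          have hwx : w * x = 1 ∨ w * x = t := by
            by_cases e1 : w * (x : G) = 1
            · exact Or.inl e1
            · by_cases e2 : w * (x : G) = t
              · exact Or.inr e2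
              · exact absurd h1 (hnone _ (mul_mem hw x.2) e1 e2)
          rcases hwx with e | e
          · right; right; left
            calc (x : G) = w * (w * x) := by rw [← mul_assoc, exp_two hn S w hw, one_mul]
              _ = w := by rw [e, mul_one]
          · right; right; right
            calc (x : G) = w * (w * x) := by rw [← mul_assoc, exp_two hn S w hw, one_mul]
              _ = w * t := by rw [e]
      have hsub : ((S : Subgroup G) : Set G) ⊆ ↑({1, t, w, w * t} : Finset G) := fun x hx => by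
        rcases hcov ⟨x, hx⟩ with h | h | h | h <;> dsimp only at h <;> simp [h]
      have h1 := Set.ncard_le_ncard hsub (Finset.finite_toSet _)
      rw [Set.ncard_coe_finset] at h1
      have h3 : Nat.card ↥(S : Subgroup G) ≤ 4 := (Nat.card_coe_set_eq ((S : Subgroup G) : Set G)).trans_le (h1.trans Finset.card_le_four)
      omega
    by_cases haQ : a ∈ centralizer (Q : Set G)
    · exact ⟨a, ha, ha1, haP, haQ⟩
    · refine ⟨t * a, mul_mem ht ha, fun h => hat ?_, mul_mem (hown t ht P hP) haP, hmulQ t ht a ha htQ haQ⟩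
      calc a = t * (t * a) := by rw [← mul_assoc, exp_two hn S t ht, one_mul]
        _ = t := by rw [h, mul_one]
  obtain ⟨x, hx, hx1, hxP, hxQ⟩ := hcommon
  have hPQ := huniq x hx hx1 P Q (hmove t ht ht1 P hP x hx hx1 hxP) (hmove w hw hw1 Q hQ x hx hx1 hxQ)
  exact hwP (hPQ ▸ hown w hw Q hQ)

end Cfsg.Agent.OrderJanko
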