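/-
With an element of order three in the normaliser, the centraliser of an involution splits.
Main results: `exists_split`, `Split.odd_eq_bot`.
-/
import Cfsg.Agent.Lib.OrderJanko.CaseOne

set_option autoImplicit false

open scoped Pointwise

namespace Cfsg.Agent.OrderJanko

open Cfsg Subgroup SmallOrders

variable {G : Type*} [Group G] [Finite G] [IsSimpleGroup G]

/-- The centraliser of `t` is the product of `⟨t⟩` and `Y`. -/
structure Split (S : Sylow 2 G) (v t : G) (Y : Subgroup G) : Prop where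
  ord : orderOf v = 3
  vN : v ∈ normalizer ((S : Subgroup G) : Set G)
  tS : t ∈ (S : Subgroup G)
  t1 : t ≠ 1
  fix : ∀ s ∈ (S : Subgroup G), v * s * v⁻¹ = s → s = 1 ∨ s = t
  vC : v ∈ centralizer ({t} : Set G)
  le : Y ≤ centralizer ({t} : Set G)
  norm : ∀ c ∈ centralizer ({t} : Set G), ∀ y ∈ Y, c * y * c⁻¹ ∈ Y
  mem_or : ∀ c ∈ centralizer ({t} : Set G), c ∈ Y ∨ c * t ∈ Y
  tY : t ∉ Y
  vY : v ∈ Y
  card : Nat.card Y * 2 = Nat.card (centralizer ({t} : Set G))

variable (hn : Nat.card G = 175560)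
include hn

theorem exists_split (S : Sylow 2 G) : ∃ v t Y, Split S v t Y := by
  classical
  have : Fact (Nat.Prime 2) := ⟨Nat.prime_two⟩
  have : Fact (Nat.Prime 3) := ⟨Nat.prime_three⟩
  obtain ⟨v, hv, hvN⟩ := exists_three hn S
  have h8 := card_sylow_two hn S
  have hab := comm_sylow hn S
  let r : MulAut (S : Subgroup G) := (S : Subgroup G).normalizerMonoidHom ⟨v, hvN⟩
  have hrv : ∀ s : (S : Subgroup G), ((r • s : (S : Subgroup G)) : G) = v * s * v⁻¹ := fun s => rfl
  have hvS : v ∉ centralizer ((S : Subgroup G) : Set G) := fun h => by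
    rw [centralizer_sylow hn S] at h
    have h1 : orderOf v ∣ 2 := orderOf_dvd_of_pow_eq_one (by rw [pow_two]; exact exp_two hn S _ h)
    rw [hv] at h1
    omega
  have hr1 : r ≠ 1 := fun h => hvS <| by
    have : (⟨v, hvN⟩ : normalizer ((S : Subgroup G) : Set G)) ∈ (S : Subgroup G).normalizerMonoidHom.ker := h
    rw [(S : Subgroup G).normalizerMonoidHom_ker] at this
    exact this
  have hro : orderOf r = 3 := orderOf_eq_prime (by
    rw [← map_pow, show (⟨v, hvN⟩ : normalizer ((S : Subgroup G) : Set G)) ^ 3 = 1 from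
      Subtype.ext (by rw [SubgroupClass.coe_pow, ← hv]; exact pow_orderOf_eq_one v), map_one]) hr1
  let F := ((S : Subgroup G) ⊓ centralizer ({v} : Set G))
  have hFfix : Nat.card {q : (S : Subgroup G) // r • q = q} = Nat.card F := by
    refine Nat.card_congr ⟨fun q => ⟨q.1.1, mem_inf.mpr ⟨q.1.2, mem_centralizer_singleton_iff.mpr ?_⟩⟩,
      fun x => ⟨⟨x.1, x.2.1⟩, Subtype.ext ?_⟩, fun _ => rfl, fun _ => rfl⟩
    · exact (mul_inv_eq_iff_eq_mul.mp ((hrv q.1).symm.trans (congrArg Subtype.val q.2))).symm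
    · rw [hrv]; exact mul_inv_eq_iff_eq_mul.mpr (mem_centralizer_singleton_iff.mp x.2.2).symm
  have hFd : Nat.card F ∣ 8 := h8 ▸ card_dvd_of_le inf_le_left
  have hmod := card_fixed_mod (X := (S : Subgroup G)) hro
  rw [hFfix, h8] at hmod
  have hF8 : Nat.card F ≠ 8 := fun h => hvS <| mem_centralizer_iff.mpr fun s hs => by
    have he := eq_of_le_of_card_ge (inf_le_left : F ≤ (S : Subgroup G)) (by rw [h, h8])
    have hsF : s ∈ F := he.ge hs
    exact mem_centralizer_singleton_iff.mp hsF.2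
  have hF2 : Nat.card F = 2 := by
    have := Nat.le_of_dvd (by norm_num) hFd
    generalize Nat.card F = k at *
    interval_cases k <;> omega
  obtain ⟨⟨t, htF⟩, ht'⟩ := exists_prime_orderOf_dvd_card' (G := F) 2 (by rw [hF2])
  rw [orderOf_mk] at ht'
  have ht1 : t ≠ 1 := fun h => by rw [h, orderOf_one] at ht'; omega
  have hfix : ∀ s ∈ (S : Subgroup G), v * s * v⁻¹ = s → s = 1 ∨ s = t := by
    intro s hs hvs
    have hsF : s ∈ F := mem_inf.mpr ⟨hs, mem_centralizer_singleton_iff.mpr (mul_inv_eq_iff_eq_mul.mp hvs).symm⟩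
    have hle : zpowers t ≤ F := zpowers_le.mpr htF
    have heq := eq_of_le_of_card_ge hle (by rw [hF2, Nat.card_zpowers, ht'])
    rw [← heq] at hsF
    obtain ⟨i, rfl⟩ := mem_zpowers_iff.mp hsF
    rcases Int.even_or_odd i with ⟨j, hj⟩ | ⟨j, hj⟩
    · left; rw [hj, ← two_mul, zpow_mul, zpow_two, mul_self_of_orderOf_two ht', one_zpow]
    · right; rw [hj, zpow_add_one, zpow_mul, zpow_two, mul_self_of_orderOf_two ht', one_zpow, one_mul]
  have htS : t ∈ (S : Subgroup G) := htF.1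
  have htv : t * v = v * t := mem_centralizer_singleton_iff.mp htF.2
  have hvC : v ∈ centralizer ({t} : Set G) := mem_centralizer_singleton_iff.mpr htv.symm
  set C := centralizer ({t} : Set G) with hC
  have hSC := le_cent hn S htS
  let S' : Sylow 2 C := S.subtype hSC
  have htC : t ∈ C := hSC htS
  open scoped IsMulCommutative in
  let π : ↥(S : Subgroup G) →* ↥(S : Subgroup G) := MonoidHom.id _ * r.toMonoidHom * (r * r).toMonoidHom
  open scoped IsMulCommutative in
  have hπ : ∀ s, π s = s * r s * r (r s) := fun s => rfl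
  have hr3 : ∀ s, r (r (r s)) = s := fun s => by
    have h := DFunLike.congr_fun (hro ▸ pow_orderOf_eq_one r) s
    rw [pow_succ, pow_succ, pow_one] at h
    exact h
  have hπfix : ∀ s, r (π s) = π s := by
    intro s
    open scoped IsMulCommutative in
    rw [hπ, map_mul, map_mul, hr3, mul_comm' (r s * r (r s)) s, mul_assoc]
  have hπt : π ⟨t, htS⟩ = ⟨t, htS⟩ := by
    have hrt : r ⟨t, htS⟩ = ⟨t, htS⟩ := Subtype.ext (mul_inv_eq_iff_eq_mul.mpr htv.symm)
    rw [hπ, hrt, hrt]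
    exact Subtype.ext (by show t * t * t = t; rw [mul_self_of_orderOf_two ht', one_mul])
  obtain ⟨f₀, hf₀⟩ : ∃ f₀ : C →* ↥(S : Subgroup G), f₀ ⟨t, htC⟩ = ⟨t, htS⟩ := by
    open scoped IsMulCommutative in
    let φ : ↥(S' : Subgroup C) →* ↥(S : Subgroup G) := (subgroupOfEquivOfLe hSC).toMonoidHom
    have key : ∀ (k : ℕ) (g₀ : C), g₀⁻¹ * (⟨t, htC⟩ : C) ^ k * g₀ ∈ (S' : Subgroup C) →
        g₀⁻¹ * (⟨t, htC⟩ : C) ^ k * g₀ = (⟨t, htC⟩ : C) ^ k := fun k g₀ _ => by
      have h1 : Commute (⟨t, htC⟩ : C) g₀ := Subtype.ext (mem_centralizer_singleton_iff.mp g₀.2).symm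
      rw [mul_assoc, (h1.pow_left k).eq, inv_mul_cancel_left]
    open scoped IsMulCommutative in
    refine ⟨MonoidHom.transfer φ, (MonoidHom.transfer_eq_pow φ (⟨t, htC⟩ : C) key).trans (Subtype.ext ?_)⟩
    have hodd : (S' : Subgroup C).index % 2 = 1 := by
      have := S'.not_dvd_index
      omega
    show t ^ (S' : Subgroup C).index = t
    rw [← Nat.div_add_mod (S' : Subgroup C).index 2, hodd, pow_succ, pow_mul, pow_two,
      mul_self_of_orderOf_two ht', one_pow, one_mul]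
  obtain ⟨f, hft, hran⟩ : ∃ f : C →* ↥(S : Subgroup G), f ⟨t, htC⟩ = ⟨t, htS⟩ ∧
      ∀ c, f c = 1 ∨ f c = ⟨t, htS⟩ := by
    refine ⟨π.comp f₀, (congrArg π hf₀).trans hπt, fun c => ?_⟩
    rcases hfix _ (π (f₀ c)).2 (congrArg Subtype.val (hπfix (f₀ c))) with h | h
    · exact Or.inl (Subtype.ext h)
    · exact Or.inr (Subtype.ext h)
  clear hπt hπfix hπ hf₀
  have hker : Nat.card f.ker * 2 = Nat.card C := by
    rw [← f.ker.card_mul_index, index_ker]
    congr 1
    have he : f.range = zpowers (⟨t, htS⟩ : (S : Subgroup G)) := by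
      refine le_antisymm ?_ (zpowers_le.mpr ⟨_, hft⟩)
      rintro _ ⟨c, rfl⟩
      rcases hran c with h | h <;> rw [h]
      · exact one_mem _
      · exact mem_zpowers _
    rw [he, Nat.card_zpowers, orderOf_mk, ht']
  refine ⟨v, t, f.ker.map C.subtype, hv, hvN, htS, ht1, hfix, hvC, map_subtype_le f.ker, ?_, ?_, ?_, ?_, ?_⟩
  · rintro c hc _ ⟨y, hy, rfl⟩
    exact ⟨⟨c, hc⟩ * y * ⟨c, hc⟩⁻¹, f.normal_ker.conj_mem y hy _, rfl⟩
  · intro c hc
    rcases hran ⟨c, hc⟩ with h | h
    · exact Or.inl ⟨⟨c, hc⟩, h, rfl⟩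
    · refine Or.inr ⟨⟨c, hc⟩ * ⟨t, htC⟩, ?_, rfl⟩
      show f _ = 1
      rw [map_mul, h, hft]
      exact Subtype.ext (mul_self_of_orderOf_two ht')
  · rintro ⟨y, hy, hye⟩
    have : y = ⟨t, htC⟩ := Subtype.ext hye
    subst this
    exact ht1 (congrArg Subtype.val (hft.symm.trans hy))
  · refine ⟨⟨v, hvC⟩, ?_, rfl⟩
    show f _ = 1
    have h3 : f ⟨v, hvC⟩ ^ 3 = 1 := by
      rw [← map_pow, show (⟨v, hvC⟩ : C) ^ 3 = 1 from Subtype.ext (by rw [SubgroupClass.coe_pow, ← hv]; exact pow_orderOf_eq_one v), map_one]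
    rcases hran ⟨v, hvC⟩ with h | h
    · exact h
    · rw [h] at h3
      exact absurd (congrArg Subtype.val h3) (by
        show t ^ 3 ≠ 1
        rw [pow_succ, pow_two, mul_self_of_orderOf_two ht', one_mul]; exact ht1)
  · rw [card_map_of_injective C.subtype_injective]; exact hker

namespace Split

variable {S : Sylow 2 G} {v t : G} {Y : Subgroup G} (D : Split S v t Y)
include D

omit hn in
theorem t_comm {c : G} (hc : c ∈ centralizer ({t} : Set G)) : Commute c t :=
  mem_centralizer_singleton_iff.mp hc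

theorem t_order : orderOf t = 2 := orderOf_mem_sylow hn S D.tS D.t1

theorem mul_conj_mem {s : G} (hs : s ∈ (S : Subgroup G)) : s * (v * s * v⁻¹) ∈ Y ⊓ (S : Subgroup G) := by
  refine mem_inf.mpr ⟨?_, mul_mem hs ((mem_normalizer_iff.mp D.vN s).mp hs)⟩
  rw [show s * (v * s * v⁻¹) = s * v * s⁻¹ * v⁻¹ by
    rw [inv_eq_of_mul_eq_one_right (exp_two hn S s hs)]; group]
  exact mul_mem (D.norm s (le_cent hn S D.tS hs) v D.vY) (inv_mem D.vY)

theorem card_meet : Nat.card ↥(Y ⊓ (S : Subgroup G)) = 4 := by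
  have h8 := card_sylow_two hn S
  let g : ↥(Y ⊓ (S : Subgroup G)) ⊕ ↥(Y ⊓ (S : Subgroup G)) → ↥(S : Subgroup G) :=
    Sum.elim (fun y => ⟨y.1, y.2.2⟩) (fun y => ⟨y.1 * t, mul_mem y.2.2 D.tS⟩)
  have hg : Function.Bijective g := by
    constructor
    · rintro (x | x) (y | y) h <;> have h' := congrArg Subtype.val h <;> simp only [g, Sum.elim_inl, Sum.elim_inr] at h'
      · exact congrArg Sum.inl (Subtype.ext h')
      · exfalso
        refine D.tY ?_
        rw [show t = y.1⁻¹ * x.1 by rw [h', inv_mul_cancel_left]]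
        exact mul_mem (inv_mem y.2.1) x.2.1
      · exfalso
        refine D.tY ?_
        rw [show t = x.1⁻¹ * y.1 by rw [← h', inv_mul_cancel_left]]
        exact mul_mem (inv_mem x.2.1) y.2.1
      · exact congrArg Sum.inr (Subtype.ext (mul_right_cancel h'))
    · intro s
      rcases D.mem_or s (le_cent hn S D.tS s.2) with h | h
      · exact ⟨Sum.inl ⟨s, mem_inf.mpr ⟨h, s.2⟩⟩, rfl⟩
      · refine ⟨Sum.inr ⟨s * t, mem_inf.mpr ⟨h, mul_mem s.2 D.tS⟩⟩, Subtype.ext ?_⟩
        show (s : G) * t * t = s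
        rw [mul_assoc, exp_two hn S t D.tS, mul_one]
  have := Nat.card_eq_of_bijective g hg
  rw [Nat.card_sum, h8] at this
  omega

/-- A subgroup containing a non-trivial element of `Y ∩ S` and its conjugate under `v` contains `Y ∩ S`. -/
theorem meet_le {H : Subgroup G} {w : G} (hw : w ∈ Y ⊓ (S : Subgroup G)) (hw1 : w ≠ 1) (hwH : w ∈ H)
    (hvw : v * w * v⁻¹ ∈ H) : Y ⊓ (S : Subgroup G) ≤ H := by
  set W := Y ⊓ (S : Subgroup G) with hW
  have hw' : v * w * v⁻¹ ∈ W :=
    mem_inf.mpr ⟨D.norm v D.vC w hw.1, (mem_normalizer_iff.mp D.vN w).mp hw.2⟩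
  have hne : v * w * v⁻¹ ≠ w := fun h => by
    rcases D.fix w hw.2 h with h' | h'
    · exact hw1 h'
    · exact D.tY (h' ▸ hw.1)
  have h3 : 3 ≤ Nat.card ↥(H ⊓ W) := by
    let f : Fin 3 → ↥(H ⊓ W) := ![1, ⟨w, hwH, hw⟩, ⟨v * w * v⁻¹, hvw, hw'⟩]
    have hf : Function.Injective f := by
      intro i j h
      have h' := congrArg Subtype.val h
      fin_cases i <;> fin_cases j <;> simp [f] at h' ⊢
      all_goals first
        | exact hw1 h'.symm
        | exact hw1 h'
        | exact hne h'.symm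
        | exact hne h'
        | exact hw1 (conj_eq_one_iff.mp h')
        | exact hw1 (conj_eq_one_iff.mp h'.symm)
    simpa using Nat.card_le_card_of_injective f hf
  have hd : Nat.card ↥(H ⊓ W) ∣ 4 := card_meet hn D ▸ card_dvd_of_le inf_le_right
  have h4 : Nat.card ↥(H ⊓ W) = 4 := by
    have := Nat.le_of_dvd (by norm_num) hd
    generalize Nat.card ↥(H ⊓ W) = k at *
    interval_cases k <;> omega
  have he := eq_of_le_of_card_ge (inf_le_right : H ⊓ W ≤ W) (by rw [h4, hW, card_meet hn D])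
  exact fun x hx => (he.ge hx).1

/-- No normal subgroup of odd order other than `1` lies in the centraliser. -/
theorem odd_eq_bot {N : Subgroup G} (hle : N ≤ centralizer ({t} : Set G))
    (hnorm : ∀ c ∈ centralizer ({t} : Set G), ∀ x ∈ N, c * x * c⁻¹ ∈ N) (hodd : ¬ 2 ∣ Nat.card N) :
    N = ⊥ := by
  classical
  have : Fact (Nat.Prime 2) := ⟨Nat.prime_two⟩
  by_contra hne
  obtain ⟨p, hp, hpN⟩ := Nat.exists_prime_and_dvd (fun h => hne (eq_bot_of_card_eq N h))
  have := Fact.mk hp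
  have hp2 : p ≠ 2 := fun h => hodd (h ▸ hpN)
  have hSC := le_cent hn S D.tS
  obtain ⟨P, hPN, hPc, hPS⟩ := exists_invariant hn S hSC hle hnorm hodd hpN
  have hM : ((N ⊔ (S : Subgroup G) : Subgroup G) : Set G) = (N : Set G) * ((S : Subgroup G) : Set G) :=
    coe_mul_of_right_le_normalizer_left N (S : Subgroup G) fun s hs => mem_normalizer_fintype fun x hx => hnorm s (hSC hs) x hx
  have hNM : ∀ x ∈ N ⊔ (S : Subgroup G), x ∈ normalizer ((S : Subgroup G) : Set G) → x ∈ (S : Subgroup G) := by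
    intro x hx hxN
    rw [← SetLike.mem_coe, hM, Set.mem_mul] at hx
    obtain ⟨n, hn', s, hs, rfl⟩ := hx
    have hnN : n ∈ normalizer ((S : Subgroup G) : Set G) := by
      have := mul_mem hxN (inv_mem (le_normalizer hs))
      rwa [mul_inv_cancel_right] at this
    have hnC : n ∈ centralizer ((S : Subgroup G) : Set G) := by
      refine mem_centralizer_iff.mpr fun a ha => ?_
      have h1 : n * a * n⁻¹ * a⁻¹ ∈ (S : Subgroup G) :=
        mul_mem ((mem_normalizer_iff.mp hnN a).mp ha) (inv_mem ha)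
      have h2 : n * a * n⁻¹ * a⁻¹ ∈ N := by
        rw [show n * a * n⁻¹ * a⁻¹ = n * (a * n⁻¹ * a⁻¹) by group]
        exact mul_mem hn' (hnorm a (hSC ha) _ (inv_mem hn'))
      have h3 : n * a * n⁻¹ * a⁻¹ = 1 := by
        by_contra h3
        refine hodd ?_
        rw [← orderOf_mem_sylow hn S h1 h3]
        exact orderOf_dvd_natCard N h2
      exact (mul_inv_eq_iff_eq_mul.mp (mul_inv_eq_one.mp h3)).symm
    rw [centralizer_sylow hn S] at hnC
    exact mul_mem hnC hs
  -- the subgroup is invariant under `v`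
  have hPv : P.map (MulAut.conj v).toMonoidHom = P := by
    refine unique_invariant hn S le_sup_right hNM hp2 ?_ (hPN.trans le_sup_left) ?_ hPc ?_ hPS
    · rintro _ ⟨x, hx, rfl⟩
      exact mem_sup_left (hnorm v D.vC x (hPN hx))
    · rw [card_map_of_injective (MulEquiv.injective _), hPc]
    · intro s hs
      refine mem_normalizer_fintype ?_
      rintro _ ⟨x, hx, rfl⟩
      have hs' : v⁻¹ * s * v ∈ (S : Subgroup G) := by
        have := (mem_normalizer_iff.mp (inv_mem D.vN) s).mp hs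
        rwa [inv_inv] at this
      exact ⟨_, (mem_normalizer_iff.mp (hPS hs') x).mp hx, by
        show v * (v⁻¹ * s * v * x * (v⁻¹ * s * v)⁻¹) * v⁻¹ = s * (v * x * v⁻¹) * s⁻¹
        group⟩
  have hvinv : ∀ u, u ∈ centralizer (P : Set G) → v * u * v⁻¹ ∈ centralizer (P : Set G) := by
    intro u hu
    refine mem_centralizer_iff.mpr fun x hx => ?_
    obtain ⟨y, hy, rfl⟩ : x ∈ P.map (MulAut.conj v).toMonoidHom := hPv.symm ▸ hx
    show v * y * v⁻¹ * (v * u * v⁻¹) = v * u * v⁻¹ * (v * y * v⁻¹)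
    rw [conj_mul, conj_mul, mem_centralizer_iff.mp hu y hy]
  have htP : t ∈ centralizer (P : Set G) :=
    mem_centralizer_iff.mpr fun x hx => mem_centralizer_singleton_iff.mp (hle (hPN hx))
  obtain ⟨hnle, hmul⟩ := kernel_index_two hn S hp2 hPc hPS
  obtain ⟨s, hs, hsP⟩ := SetLike.not_le_iff_exists.mp hnle
  have hvs : v * s * v⁻¹ ∉ centralizer (P : Set G) := fun h => hsP <| by
    have h2 := hvinv _ (hvinv _ h)
    have h3 : v ^ 3 = 1 := by rw [← D.ord, pow_orderOf_eq_one]
    rw [show v * (v * (v * s * v⁻¹) * v⁻¹) * v⁻¹ = v ^ 3 * s * (v ^ 3)⁻¹ by rw [pow_three]; group, h3] at h2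
    simpa using h2
  have hw := hmul s hs _ ((mem_normalizer_iff.mp D.vN s).mp hs) hsP hvs
  have hw1 : s * (v * s * v⁻¹) ≠ 1 := fun h => by
    have h1 : v * s * v⁻¹ = s := by
      rw [← inv_eq_of_mul_eq_one_right h, inv_eq_of_mul_eq_one_right (exp_two hn S s hs)]
    rcases D.fix s hs h1 with h' | h'
    · exact hsP (h' ▸ one_mem _)
    · exact hsP (h' ▸ htP)
  have hW := meet_le hn D (mul_conj_mem hn D hs) hw1 hw (hvinv _ hw)
  refine hnle fun x hx => ?_
  rcases D.mem_or x (hSC hx) with h | h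
  · exact hW (mem_inf.mpr ⟨h, hx⟩)
  · have h2 := mul_mem (hW (mem_inf.mpr ⟨h, mul_mem hx D.tS⟩)) htP
    rwa [mul_assoc, exp_two hn S t D.tS, mul_one] at h2

end Split

end Cfsg.Agent.OrderJanko
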