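/-
The complement `Y` in the centraliser of an involution is simple or has order twelve.
Main results: `Split.simple_or_twelve`, `Split.card_eq_mul`.
-/
import Cfsg.Agent.Lib.OrderJanko.Split

set_option autoImplicit false

namespace Cfsg.Agent.OrderJanko

open Cfsg Subgroup SmallOrders

variable {G : Type*} [Group G] [Finite G] [IsSimpleGroup G] (hn : Nat.card G = 175560)
include hn

namespace Split

variable {S : Sylow 2 G} {v t : G} {Y : Subgroup G} (D : Split S v t Y)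
include D

theorem card_eq_mul : ∃ m, Nat.card Y = 4 * m ∧ m ∣ 21945 ∧ 3 ∣ m := by
  obtain ⟨k, hk⟩ : 8 ∣ Nat.card (centralizer ({t} : Set G)) :=
    card_sylow_two hn S ▸ card_dvd_of_le (le_cent hn S D.tS)
  have hc := D.card
  rw [hk] at hc
  refine ⟨k, by omega, two_dvd_iff hn hk, ?_⟩
  have h3 : 3 ∣ Nat.card Y := D.ord ▸ orderOf_dvd_natCard Y D.vY
  rw [show Nat.card Y = 4 * k by omega] at h3
  omega

theorem mem_normalizer_of_meet {x : G} (hx : x ∈ Y)
    (h : ∀ w ∈ Y ⊓ (S : Subgroup G), x * w * x⁻¹ ∈ Y ⊓ (S : Subgroup G)) :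
    x ∈ normalizer ((S : Subgroup G) : Set G) := by
  refine mem_normalizer_fintype fun s hs => ?_
  rcases D.mem_or s (le_cent hn S D.tS hs) with h' | h'
  · exact (h s (mem_inf.mpr ⟨h', hs⟩)).2
  · have h2 : x * (s * t) * x⁻¹ * t ∈ (S : Subgroup G) :=
      mul_mem (h _ (mem_inf.mpr ⟨h', mul_mem hs D.tS⟩)).2 D.tS
    have hxt : Commute x t := mem_centralizer_singleton_iff.mp (D.le hx)
    have e : x * (s * t) * x⁻¹ * t = x * s * x⁻¹ := by
      calc x * (s * t) * x⁻¹ * t = x * s * (t * x⁻¹) * t := by group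
        _ = x * s * (x⁻¹ * t) * t := by rw [hxt.inv_left.eq]
        _ = x * s * x⁻¹ * (t * t) := by group
        _ = x * s * x⁻¹ := by rw [exp_two hn S t D.tS, mul_one]
    exact e ▸ h2

theorem twelve_dvd {H : Subgroup G} (hW : Y ⊓ (S : Subgroup G) ≤ H) (hv : v ∈ H) : 12 ∣ Nat.card H :=
  Nat.Coprime.mul_dvd_of_dvd_of_dvd (show Nat.Coprime 4 3 by norm_num)
    (card_meet hn D ▸ card_dvd_of_le hW) (D.ord ▸ orderOf_dvd_natCard H hv)

theorem meet_le_normalizer : Y ⊓ (S : Subgroup G) ≤ Y ⊓ normalizer ((S : Subgroup G) : Set G) :=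
  inf_le_inf_left Y le_normalizer

theorem card_normalizer : Nat.card ↥(Y ⊓ normalizer ((S : Subgroup G) : Set G)) = 12 := by
  set K := Y ⊓ normalizer ((S : Subgroup G) : Set G) with hK
  have h12 : 12 ∣ Nat.card K := twelve_dvd hn D (meet_le_normalizer hn D) (mem_inf.mpr ⟨D.vY, D.vN⟩)
  have hle : K ≤ normalizer ((S : Subgroup G) : Set G) ⊓ centralizer ({t} : Set G) :=
    fun x hx => mem_inf.mpr ⟨(mem_inf.mp hx).2, D.le (mem_inf.mp hx).1⟩
  have h24 := (card_dvd_of_le hle).trans (normCent_dvd hn S D.tS D.t1)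
  have hne : Nat.card K ≠ 24 := fun h => by
    have he := eq_of_le_of_card_ge hle (by
      rw [h]; exact Nat.le_of_dvd (by norm_num) (normCent_dvd hn S D.tS D.t1))
    have ht : t ∈ K := he.ge (mem_inf.mpr ⟨le_normalizer D.tS, le_cent hn S D.tS D.tS⟩)
    exact D.tY (mem_inf.mp ht).1
  have := Nat.le_of_dvd (by norm_num) h24
  have := (Nat.card_pos : 0 < Nat.card K)
  generalize Nat.card K = k at *
  interval_cases k <;> omega

theorem simple_or_twelve : IsSimpleGroup Y ∨ Nat.card Y = 12 := by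
  classical
  have : Fact (Nat.Prime 2) := ⟨Nat.prime_two⟩
  by_cases h12 : Nat.card Y = 12
  · exact Or.inr h12
  left
  obtain ⟨m, hm, hm', h3m⟩ := card_eq_mul hn D
  have hm2 : ¬ 2 ∣ m := fun h => absurd (h.trans hm') (by norm_num)
  have hnt : Nontrivial Y := Finite.one_lt_card_iff_nontrivial.mp (by omega)
  refine @IsSimpleGroup.mk _ _ hnt fun N₀ hN₀ => ?_
  set N := N₀.map Y.subtype with hNdef
  have hNY : N ≤ Y := map_subtype_le N₀
  have hNC : N ≤ centralizer ({t} : Set G) := hNY.trans D.le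
  have hN₀' : N₀ = N.subgroupOf Y := (comap_map_eq_self_of_injective Y.subtype_injective N₀).symm
  have hnormY : ∀ y ∈ Y, ∀ x ∈ N, y * x * y⁻¹ ∈ N := by
    rintro y hy _ ⟨x, hx, rfl⟩
    exact ⟨⟨y, hy⟩ * x * ⟨y, hy⟩⁻¹, hN₀.conj_mem x hx _, rfl⟩
  have hnorm : ∀ c ∈ centralizer ({t} : Set G), ∀ x ∈ N, c * x * c⁻¹ ∈ N := by
    intro c hc x hx
    rcases D.mem_or c hc with h | h
    · exact hnormY c h x hx
    · have h2 := hnormY _ h x hx
      have hxt : Commute x t := mem_centralizer_singleton_iff.mp (hNC hx)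
      have e : c * t * x * (c * t)⁻¹ = c * x * c⁻¹ := by
        calc c * t * x * (c * t)⁻¹ = c * (t * x) * t⁻¹ * c⁻¹ := by group
          _ = c * (x * t) * t⁻¹ * c⁻¹ := by rw [hxt.eq]
          _ = c * x * c⁻¹ := by group
      exact e ▸ h2
  by_cases hodd : ¬ 2 ∣ Nat.card N
  · left
    have hb := odd_eq_bot hn D hNC hnorm hodd
    rw [hNdef, Subgroup.map_eq_bot_iff, Y.ker_subtype, le_bot_iff] at hb
    exact hb
  push Not at hodd
  right
  set W := Y ⊓ (S : Subgroup G) with hW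
  have hWN : W ≤ N := by
    obtain ⟨x, hx⟩ := exists_prime_orderOf_dvd_card' (G := N) 2 hodd
    have hSC := le_cent hn S D.tS
    have hxo : orderOf (⟨(x : G), hNC x.2⟩ : centralizer ({t} : Set G)) = 2 := by
      rw [orderOf_mk, Subgroup.orderOf_coe, hx]
    obtain ⟨c, hc⟩ := exists_conj_mem hxo (S.subtype hSC)
    have huS : (c : G) * x * (c : G)⁻¹ ∈ (S : Subgroup G) := hc
    have huN : (c : G) * x * (c : G)⁻¹ ∈ N := hnorm c c.2 x x.2
    refine meet_le hn D (mem_inf.mpr ⟨hNY huN, huS⟩) (fun h => ?_) huN (hnorm v D.vC _ huN)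
    rw [show x = 1 from Subtype.ext (conj_eq_one_iff.mp h), orderOf_one] at hx
    omega
  have hW4 : Nat.card W = 4 := card_meet hn D
  have hfac : (Nat.card N).factorization 2 = 2 := by
    obtain ⟨k, hk⟩ : 4 ∣ Nat.card N := hW4 ▸ card_dvd_of_le hWN
    have hkm : k ∣ m := Nat.dvd_of_mul_dvd_mul_left (by norm_num : 0 < 4) (hk ▸ hm ▸ card_dvd_of_le hNY)
    have hk2 : ¬ 2 ∣ k := fun h => hm2 (h.trans hkm)
    rw [hk, Nat.factorization_def _ Nat.prime_two, show (4 : ℕ) = 2 ^ 2 by norm_num,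
      padicValNat.mul (by norm_num) (fun h => hk2 (by rw [h]; exact dvd_zero 2)), padicValNat.prime_pow,
      padicValNat.eq_zero_of_not_dvd hk2]
  let A : Sylow 2 N := Sylow.ofCard (W.subgroupOf N) (by
    rw [Nat.card_congr (subgroupOfEquivOfLe hWN).toEquiv, hW4, hfac]; norm_num)
  have hfrat : ∀ y ∈ Y, ∃ n ∈ N, n * y ∈ Y ⊓ normalizer ((S : Subgroup G) : Set G) := by
    intro y hy
    let Wy := W.map (MulAut.conj y).toMonoidHom
    have hWyN : Wy ≤ N := by
      rintro _ ⟨w, hw, rfl⟩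
      exact hnormY y hy w (hWN hw)
    let B : Sylow 2 N := Sylow.ofCard (Wy.subgroupOf N) (by
      rw [Nat.card_congr (subgroupOfEquivOfLe hWyN).toEquiv, card_map_of_injective (MulEquiv.injective _), hW4, hfac]
      norm_num)
    obtain ⟨n, hn'⟩ := MulAction.exists_smul_eq N B A
    refine ⟨n, n.2, mem_inf.mpr ⟨mul_mem (hNY n.2) hy, ?_⟩⟩
    refine mem_normalizer_of_meet hn D (mul_mem (hNY n.2) hy) fun w hw => ?_
    have h1 : n * ⟨y * w * y⁻¹, hWyN ⟨w, hw, rfl⟩⟩ * n⁻¹ ∈ (A : Subgroup N) := by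
      rw [← hn']
      exact ⟨_, (show (⟨_, _⟩ : N) ∈ (B : Subgroup N) from ⟨w, hw, rfl⟩), rfl⟩
    have h2 : (n : G) * (y * w * y⁻¹) * (n : G)⁻¹ ∈ W := h1
    rw [show (n : G) * y * w * ((n : G) * y)⁻¹ = (n : G) * (y * w * y⁻¹) * (n : G)⁻¹ by group]
    exact h2
  set K := Y ⊓ normalizer ((S : Subgroup G) : Set G) with hK
  have hK12 : Nat.card K = 12 := card_normalizer hn D
  by_cases hvN : v ∈ N
  · have hKN : K ≤ N := by
      have he := eq_of_le_of_card_ge (inf_le_right : N ⊓ K ≤ K) (by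
        rw [hK12]
        exact Nat.le_of_dvd Nat.card_pos (twelve_dvd hn D (le_inf hWN (meet_le_normalizer hn D))
          (mem_inf.mpr ⟨hvN, mem_inf.mpr ⟨D.vY, D.vN⟩⟩)))
      exact fun x hx => (he.ge hx).1
    rw [hN₀', subgroupOf_eq_top]
    intro y hy
    obtain ⟨n, hn', hny⟩ := hfrat y hy
    have := mul_mem (inv_mem hn') (hKN hny)
    rwa [inv_mul_cancel_left] at this
  exfalso
  have hNK : N ⊓ K = W := by
    refine (eq_of_le_of_card_ge (le_inf hWN (meet_le_normalizer hn D)) ?_).symm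
    have h1 : Nat.card ↥(N ⊓ K) ∣ 12 := hK12 ▸ card_dvd_of_le inf_le_right
    have h2 : 4 ∣ Nat.card ↥(N ⊓ K) := hW4 ▸ card_dvd_of_le (le_inf hWN (meet_le_normalizer hn D))
    have h3 : Nat.card ↥(N ⊓ K) ≠ 12 := fun h => hvN <| by
      have he := eq_of_le_of_card_ge (inf_le_right : N ⊓ K ≤ K) (by rw [h, hK12])
      exact (he.ge (mem_inf.mpr ⟨D.vY, D.vN⟩)).1
    rw [hW4]
    have := Nat.le_of_dvd (by norm_num) h1
    rw [← hK]
    generalize Nat.card ↥(N ⊓ K) = k at *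
    interval_cases k <;> omega
  have hnc : normalizer ((A : Subgroup N) : Set N) ≤ centralizer ((A : Subgroup N) : Set N) := by
    intro g hg
    have hgK : (g : G) ∈ K := mem_inf.mpr ⟨hNY g.2, mem_normalizer_of_meet hn D (hNY g.2) fun w hw =>
      (mem_normalizer_iff.mp hg ⟨w, hWN hw⟩).mp hw⟩
    have hgW : (g : G) ∈ W := hNK ▸ mem_inf.mpr ⟨g.2, hgK⟩
    have := comm_sylow hn S
    exact mem_centralizer_iff.mpr fun h hh => Subtype.ext (congrArg (fun z : ↥(S : Subgroup G) => (z : G))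
      (mul_comm' (⟨h.1, (mem_inf.mp (show (h : G) ∈ W from hh)).2⟩ : (S : Subgroup G)) ⟨g.1, (mem_inf.mp hgW).2⟩))
  obtain ⟨O, hO, hOodd, hOcard⟩ : ∃ O : Subgroup N, O.Normal ∧ ¬ 2 ∣ Nat.card O ∧
      Nat.card O * Nat.card ↥(A : Subgroup N) = Nat.card N :=
    ⟨(MonoidHom.transferSylow A hnc).ker, inferInstance, MonoidHom.not_dvd_card_ker_transferSylow A hnc,
      (MonoidHom.ker_transferSylow_isComplement' A hnc).card_mul_card⟩
  have hA4 : Nat.card ↥(A : Subgroup N) = 4 := by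
    show Nat.card ↥(W.subgroupOf N) = 4
    rw [Nat.card_congr (subgroupOfEquivOfLe hWN).toEquiv, hW4]
  rw [hA4] at hOcard
  have hOidx : O.index = 4 := by
    have := O.card_mul_index
    have := (Nat.card_pos : 0 < Nat.card O)
    nlinarith
  have hmem : ∀ x : N, Odd (orderOf x) → x ∈ O := by
    intro x hx
    have h4 : x ^ 4 ∈ O := hOidx ▸ O.pow_index_mem x
    have hcop : Nat.Coprime 4 (orderOf x) := by
      have : Nat.Coprime 2 (orderOf x) := Nat.coprime_two_left.mpr hx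
      exact this.pow_left 2
    obtain ⟨k, hk⟩ := exists_pow_eq_self_of_coprime hcop
    exact hk ▸ pow_mem h4 k
  have hObot : O = ⊥ := by
    have hb := odd_eq_bot hn D (N := O.map N.subtype) ((map_subtype_le O).trans hNC) ?_
      (by rwa [card_map_of_injective N.subtype_injective])
    · rwa [Subgroup.map_eq_bot_iff, N.ker_subtype, le_bot_iff] at hb
    rintro c hc _ ⟨o, ho, rfl⟩
    refine ⟨⟨c * o * c⁻¹, hnorm c hc o o.2⟩, hmem _ ?_, rfl⟩
    rw [orderOf_mk, ← MulAut.conj_apply, MulEquiv.orderOf_eq, Subgroup.orderOf_coe]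
    refine Nat.odd_iff.mpr ?_
    have h1 : orderOf o ∣ Nat.card O := orderOf_dvd_natCard O ho
    by_contra h2
    exact hOodd ((Nat.dvd_of_mod_eq_zero (by omega)).trans h1)
  rw [hObot, card_bot, one_mul] at hOcard
  have hNW : N = W := (eq_of_le_of_card_ge hWN (by omega)).symm
  refine h12 ?_
  rw [← hK12]
  have hYK : Y ≤ K := by
    intro y hy
    refine mem_inf.mpr ⟨hy, mem_normalizer_of_meet hn D hy fun w hw => ?_⟩
    exact hNW.le (hnormY y hy w (hWN hw))
  rw [le_antisymm hYK inf_le_left]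

end Split

end Cfsg.Agent.OrderJanko
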