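/-
Centralisers of elements of the complement `Y`, and the complement does not have order twelve.
Main results: `four_dvd_meet`, `Split.card_inf_mul`, `Split.card_ne_twelve`.
-/
import Cfsg.Agent.Lib.OrderJanko.CaseTwo

set_option autoImplicit false

namespace Cfsg.Agent.OrderJanko

open Cfsg Subgroup SmallOrders

variable {G : Type*} [Group G] [Finite G] [IsSimpleGroup G] (hn : Nat.card G = 175560)
include hn

/-- A centraliser of order divisible by four containing `t` meets that of `t` in a multiple of four. -/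
theorem four_dvd_meet {y t : G} (ht : orderOf t = 2) (hty : Commute t y)
    (h4 : 4 ∣ Nat.card (centralizer ({y} : Set G))) :
    4 ∣ Nat.card ↥(centralizer ({y} : Set G) ⊓ centralizer ({t} : Set G)) := by
  have : Fact (Nat.Prime 2) := ⟨Nat.prime_two⟩
  set C := centralizer ({y} : Set G)
  have htC : t ∈ C := mem_centralizer_singleton_iff.mpr hty.eq
  obtain ⟨P, hP⟩ := (IsPGroup.of_card (n := 1) (G := zpowers (⟨t, htC⟩ : C))
    (by rw [Nat.card_zpowers, orderOf_mk, ht, pow_one])).exists_le_sylow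
  have hP4 : 4 ∣ Nat.card (P : Subgroup C) := by
    rw [P.card_eq_multiplicity, show (4 : ℕ) = 2 ^ 2 by norm_num]
    exact Nat.pow_dvd_pow 2 ((Nat.prime_two.pow_dvd_iff_le_factorization Nat.card_pos.ne').mp (by norm_num; exact h4))
  obtain ⟨Q, hQ⟩ := (P.isPGroup'.map C.subtype).exists_le_sylow
  have hle : (P : Subgroup C).map C.subtype ≤ C ⊓ centralizer ({t} : Set G) := by
    intro x hx
    refine mem_inf.mpr ⟨map_subtype_le _ hx, mem_centralizer_singleton_iff.mpr ?_⟩
    have := comm_sylow hn Q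
    exact congrArg Subtype.val (mul_comm' (⟨x, hQ hx⟩ : (Q : Subgroup G))
      ⟨t, hQ ⟨⟨t, htC⟩, hP (mem_zpowers _), rfl⟩⟩)
  rw [← card_map_of_injective C.subtype_injective] at hP4
  exact hP4.trans (card_dvd_of_le hle)

namespace Split

variable {S : Sylow 2 G} {v t : G} {Y : Subgroup G} (D : Split S v t Y)
include D

theorem t_mul_self : t * t = 1 := exp_two hn S t D.tS

theorem card_inf_mul {H : Subgroup G} (hH : H ≤ centralizer ({t} : Set G)) (htH : t ∈ H) :
    Nat.card H = 2 * Nat.card ↥(H ⊓ Y) := by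
  let g : ↥(H ⊓ Y) ⊕ ↥(H ⊓ Y) → H :=
    Sum.elim (fun y => ⟨y.1, y.2.1⟩) (fun y => ⟨y.1 * t, mul_mem y.2.1 htH⟩)
  have hg : Function.Bijective g := by
    constructor
    · rintro (x | x) (y | y) h <;> have h' := congrArg Subtype.val h <;> simp only [g, Sum.elim_inl, Sum.elim_inr] at h'
      · exact congrArg Sum.inl (Subtype.ext h')
      · exfalso
        refine D.tY ?_
        rw [show t = y.1⁻¹ * x.1 by rw [h', inv_mul_cancel_left]]
        exact mul_mem (inv_mem y.2.2) x.2.2
      · exfalso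
        refine D.tY ?_
        rw [show t = x.1⁻¹ * y.1 by rw [← h', inv_mul_cancel_left]]
        exact mul_mem (inv_mem x.2.2) y.2.2
      · exact congrArg Sum.inr (Subtype.ext (mul_right_cancel h'))
    · intro s
      rcases D.mem_or s (hH s.2) with h | h
      · exact ⟨Sum.inl ⟨s, mem_inf.mpr ⟨s.2, h⟩⟩, rfl⟩
      · refine ⟨Sum.inr ⟨s * t, mem_inf.mpr ⟨mul_mem s.2 htH, h⟩⟩, Subtype.ext ?_⟩
        show (s : G) * t * t = s
        rw [mul_assoc, t_mul_self hn D, mul_one]
  have := Nat.card_eq_of_bijective g hg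
  rw [Nat.card_sum] at this
  omega

/-- The centraliser of an element of `Y` in the centraliser of `t`. -/
theorem card_cent_meet {y : G} (hy : y ∈ Y) {k : ℕ}
    (hk : Nat.card (centralizer ({(⟨y, hy⟩ : Y)} : Set Y)) = k) :
    Nat.card ↥(centralizer ({y} : Set G) ⊓ centralizer ({t} : Set G)) = 2 * k := by
  have hty : Commute y t := mem_centralizer_singleton_iff.mp (D.le hy)
  rw [card_inf_mul hn D inf_le_right (mem_inf.mpr
    ⟨mem_centralizer_singleton_iff.mpr hty.eq.symm, mem_centralizer_singleton_iff.mpr rfl⟩), ← hk]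
  congr 1
  refine Nat.card_congr ⟨fun x => ⟨⟨x.1, x.2.2⟩, mem_centralizer_singleton_iff.mpr
      (Subtype.ext (mem_centralizer_singleton_iff.mp x.2.1.1))⟩,
    fun x => ⟨x.1.1, mem_inf.mpr ⟨mem_inf.mpr ⟨mem_centralizer_singleton_iff.mpr
      (congrArg Subtype.val (mem_centralizer_singleton_iff.mp x.2)), D.le x.1.2⟩, x.1.2⟩⟩,
    fun _ => rfl, fun _ => rfl⟩

theorem card_ne_twelve : Nat.card Y ≠ 12 := by
  classical
  intro h12
  have : Fact (Nat.Prime 2) := ⟨Nat.prime_two⟩
  have : Fact (Nat.Prime 3) := ⟨Nat.prime_three⟩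
  set C := centralizer ({t} : Set G) with hC
  have hC24 : Nat.card C = 24 := by rw [← D.card, h12]
  have hCN : C ≤ normalizer ((S : Subgroup G) : Set G) := by
    intro c hc
    have hYN : Y ≤ normalizer ((S : Subgroup G) : Set G) := by
      have he := eq_of_le_of_card_ge (inf_le_left : Y ⊓ normalizer ((S : Subgroup G) : Set G) ≤ Y)
        (by rw [card_normalizer hn D, h12])
      exact fun x hx => (he.ge hx).2
    rcases D.mem_or c hc with h | h
    · exact hYN h
    · have := mul_mem (hYN h) (le_normalizer D.tS)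
      rwa [mul_assoc, t_mul_self hn D, mul_one] at this
  have hSC := le_cent hn S D.tS
  have hvS : v ∉ (S : Subgroup G) := fun h => by
    have h1 : orderOf v ∣ 2 := orderOf_dvd_of_pow_eq_one (by rw [pow_two]; exact exp_two hn S _ h)
    rw [D.ord] at h1
    omega
  have hv3 : v ^ 3 = 1 := by rw [← D.ord, pow_orderOf_eq_one]
  -- every element is a product from the Sylow subgroup and the powers of `v`
  have hdec : ∀ c ∈ C, ∃ s ∈ (S : Subgroup G), ∃ i : ℕ, c = s * v ^ i := by
    let f : ↥(S : Subgroup G) × Fin 3 → C := fun p =>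
      ⟨p.1 * v ^ p.2.1, mul_mem (hSC p.1.2) (pow_mem D.vC _)⟩
    have hinj : Function.Injective f := by
      rintro ⟨a, i⟩ ⟨b, j⟩ h
      have h' : (a : G) * v ^ i.1 = (b : G) * v ^ j.1 := congrArg Subtype.val h
      have hij : i = j := by
        have key : ∀ i j : ℕ, i < j → j < 3 → ∀ a b : ↥(S : Subgroup G), (a : G) * v ^ i = (b : G) * v ^ j → False := by
          intro i j hij hj a b h
          rw [show j = (j - i) + i by omega, pow_add, ← mul_assoc] at h
          have h2 : v ^ (j - i) ∈ (S : Subgroup G) := by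
            rw [eq_inv_mul_of_mul_eq (mul_right_cancel h).symm]
            exact mul_mem (inv_mem b.2) a.2
          obtain ⟨m, hm⟩ := exists_pow_eq_self_of_coprime (x := v) (n := j - i) (by
            rw [D.ord, Nat.coprime_comm, Nat.prime_three.coprime_iff_not_dvd]
            intro hd
            have := Nat.le_of_dvd (by omega) hd
            omega)
          exact hvS (hm ▸ pow_mem h2 m)
        rcases lt_trichotomy i.1 j.1 with h1 | h1 | h1
        · exact absurd h' (fun h => key _ _ h1 j.2 a b h)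
        · exact Fin.ext h1
        · exact absurd h'.symm (fun h => key _ _ h1 i.2 b a h)
      subst hij
      exact Prod.ext (Subtype.ext (mul_right_cancel h')) rfl
    have hsurj := (hinj.bijective_of_nat_card_le (by
      rw [Nat.card_prod, Nat.card_fin, card_sylow_two hn S, hC24])).2
    intro c hc
    obtain ⟨⟨s, i⟩, hsi⟩ := hsurj ⟨c, hc⟩
    exact ⟨s, s.2, i.1, (congrArg Subtype.val hsi).symm⟩
  -- the centraliser of `v` has twice odd order
  have hvt : Commute v t := mem_centralizer_singleton_iff.mp D.vC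
  have hto := t_order hn D
  set Cv := centralizer ({v} : Set G) with hCv
  have hmeet : Nat.card ↥(Cv ⊓ C) ≤ 6 := by
    have h1 : Cv ⊓ C ≤ zpowers v ⊔ zpowers t := by
      intro x hx
      obtain ⟨s, hs, i, rfl⟩ := hdec x (mem_inf.mp hx).2
      have h2 : s ∈ Cv := by
        have := mul_mem (mem_inf.mp hx).1 (inv_mem (pow_mem (mem_centralizer_singleton_iff.mpr rfl : v ∈ Cv) i))
        rwa [mul_inv_cancel_right] at this
      rcases D.fix s hs (mul_inv_eq_iff_eq_mul.mpr (mem_centralizer_singleton_iff.mp h2).symm) with h | h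
      · rw [h, one_mul]; exact mem_sup_left (pow_mem (mem_zpowers v) i)
      · rw [h]; exact mul_mem (mem_sup_right (mem_zpowers t)) (mem_sup_left (pow_mem (mem_zpowers v) i))
    refine (card_le_of_le h1).trans ?_
    have h2 : zpowers v ⊔ zpowers t ≤ zpowers (v * t) := by
      have hv4 : (v * t) ^ 4 = v := by
        rw [hvt.mul_pow, pow_succ v 3, hv3, one_mul, show (4 : ℕ) = 2 * 2 by norm_num, pow_mul, pow_two t,
          t_mul_self hn D, one_pow, mul_one]
      have ht3 : (v * t) ^ 3 = t := by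
        rw [hvt.mul_pow, hv3, one_mul, pow_succ, pow_two, t_mul_self hn D, one_mul]
      refine sup_le (zpowers_le.mpr ?_) (zpowers_le.mpr ?_)
      · have := pow_mem (mem_zpowers (v * t)) 4; rwa [hv4] at this
      · have := pow_mem (mem_zpowers (v * t)) 3; rwa [ht3] at this
    refine (card_le_of_le h2).trans ?_
    rw [Nat.card_zpowers, hvt.orderOf_mul_eq_mul_orderOf_of_coprime (by rw [D.ord, hto]; norm_num), D.ord, hto]
  have hn4 : ¬ 4 ∣ Nat.card Cv := by
    intro h4
    have h1 : 4 ∣ Nat.card ↥(Cv ⊓ C) := four_dvd_meet hn hto hvt.symm h4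
    have h2 : 3 ∣ Nat.card ↥(Cv ⊓ C) := D.ord ▸ orderOf_dvd_natCard _
      (mem_inf.mpr ⟨mem_centralizer_singleton_iff.mpr rfl, D.vC⟩ : v ∈ Cv ⊓ C)
    have := (Nat.card_pos : 0 < Nat.card ↥(Cv ⊓ C))
    generalize Nat.card ↥(Cv ⊓ C) = k at *
    omega
  -- an element inverting `v`
  obtain ⟨c, j, I, hL⟩ := info3 (not_comm hn) hn
  obtain rfl : j = 2 := (show ∀ q ∈ list3, q.2 = 2 by decide) _ hL
  have hfac : (Nat.card G).factorization 3 = 1 := by
    rw [hn, Nat.factorization_def _ Nat.prime_three, show (175560 : ℕ) = 3 * 58520 by norm_num,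
      padicValNat.mul (by norm_num) (by norm_num), padicValNat.self (by norm_num),
      padicValNat.eq_zero_of_not_dvd (by norm_num : ¬ 3 ∣ 58520)]
  let P : Sylow 3 G := Sylow.ofCard (zpowers v) (by rw [Nat.card_zpowers, D.ord, hfac, pow_one])
  have hPdef : (P : Subgroup G) = zpowers v := rfl
  obtain ⟨g, hg, hgv⟩ : ∃ g ∈ normalizer ((P : Subgroup G) : Set G), g ∉ Cv := by
    by_contra hall
    push Not at hall
    have h1 := card_normalizer_mul_card_sylow P
    have h2 := card_le_of_le (show normalizer ((P : Subgroup G) : Set G) ≤ Cv from hall)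
    rw [hCv, I.cent v D.ord] at h2
    have h3 := I.count
    have h4 := (Nat.card_pos : 0 < Nat.card (Sylow 3 G))
    have h5 := Nat.mul_le_mul_right (Nat.card (Sylow 3 G)) h2
    rw [h1] at h5
    have h6 : 0 < c := by
      rcases Nat.eq_zero_or_pos c with rfl | h
      · rw [hn] at h3; simp at h3
      · exact h
    nlinarith
  have hginv : g * v * g⁻¹ = v ^ 2 := by
    have h1 : g * v * g⁻¹ ∈ zpowers v := (mem_normalizer_iff.mp hg v).mp (mem_zpowers v)
    obtain ⟨i, hi, hi'⟩ := (isOfFinOrder_of_finite v).mem_zpowers_iff_mem_range_orderOf.mp h1 |> Finset.mem_image.mp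
    rw [Finset.mem_range, D.ord] at hi
    interval_cases i
    · rw [pow_zero, eq_comm, conj_eq_one_iff] at hi'
      exact absurd D.ord (by simp [hi'])
    · exfalso
      rw [pow_one, eq_comm] at hi'
      exact hgv (mem_centralizer_singleton_iff.mpr (mul_inv_eq_iff_eq_mul.mp hi'))
    · exact hi'.symm
  -- adjust it to centralise `t`
  have htCv : t ∈ Cv := mem_centralizer_singleton_iff.mpr hvt.symm.eq
  have htg : g * t * g⁻¹ ∈ Cv := by
    refine mem_centralizer_singleton_iff.mpr ?_
    have h1 : Commute (g * t * g⁻¹) (g * v * g⁻¹) := Commute.conj hvt.symm g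
    rw [hginv] at h1
    have h2 := h1.pow_right 2
    rwa [← pow_mul, pow_succ, hv3, one_mul] at h2
  have hfac2 : (Nat.card Cv).factorization 2 = 1 := by
    have h1 : 2 ∣ Nat.card Cv := hto ▸ orderOf_dvd_natCard Cv htCv
    have h2 : 1 ≤ (Nat.card Cv).factorization 2 :=
      (Nat.prime_two.dvd_iff_one_le_factorization Nat.card_pos.ne').mp h1
    by_contra h3
    exact hn4 ((show (4 : ℕ) = 2 ^ 2 by norm_num) ▸ (Nat.pow_dvd_pow 2
      (by omega : 2 ≤ (Nat.card Cv).factorization 2)).trans (Nat.ordProj_dvd _ _))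
  let A : Sylow 2 Cv := Sylow.ofCard (zpowers (⟨t, htCv⟩ : Cv)) (by
    rw [Nat.card_zpowers, orderOf_mk, hto, hfac2, pow_one])
  let B : Sylow 2 Cv := Sylow.ofCard (zpowers (⟨g * t * g⁻¹, htg⟩ : Cv)) (by
    rw [Nat.card_zpowers, orderOf_mk, ← MulAut.conj_apply, MulEquiv.orderOf_eq, hto, hfac2, pow_one])
  obtain ⟨d, hd⟩ := MulAction.exists_smul_eq Cv B A
  have hdt : (d : G) * (g * t * g⁻¹) * (d : G)⁻¹ = t := by
    have h1 : d * ⟨g * t * g⁻¹, htg⟩ * d⁻¹ ∈ (A : Subgroup Cv) := by
      rw [← hd]; exact ⟨_, mem_zpowers _, rfl⟩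
    obtain ⟨i, -, hi⟩ := (isOfFinOrder_of_finite (⟨t, htCv⟩ : Cv)).mem_zpowers_iff_mem_range_orderOf.mp h1 |> Finset.mem_image.mp
    have hi' : t ^ i = (d : G) * (g * t * g⁻¹) * (d : G)⁻¹ := by
      have := congrArg Subtype.val hi
      simpa using this
    rcases Nat.even_or_odd i with ⟨k, hk⟩ | ⟨k, hk⟩
    · rw [hk, ← two_mul, pow_mul, pow_two, t_mul_self hn D, one_pow, eq_comm, conj_eq_one_iff, conj_eq_one_iff] at hi'
      exact absurd hi' D.t1
    · rw [hk, pow_succ, pow_mul, pow_two, t_mul_self hn D, one_pow, one_mul] at hi'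
      exact hi'.symm
  have hdgC : (d : G) * g ∈ C := by
    refine mem_centralizer_singleton_iff.mpr ?_
    have : (d : G) * g * t * ((d : G) * g)⁻¹ = t := by
      calc (d : G) * g * t * ((d : G) * g)⁻¹ = (d : G) * (g * t * g⁻¹) * (d : G)⁻¹ := by group
        _ = t := hdt
    exact mul_inv_eq_iff_eq_mul.mp this
  have hdgv : (d : G) * g * v * ((d : G) * g)⁻¹ = v ^ 2 := by
    have hdv : Commute (d : G) v := mem_centralizer_singleton_iff.mp d.2
    calc (d : G) * g * v * ((d : G) * g)⁻¹ = (d : G) * (g * v * g⁻¹) * (d : G)⁻¹ := by group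
      _ = v ^ 2 := by rw [hginv, (hdv.pow_right 2).eq]; group
  obtain ⟨s, hs, i, hsi⟩ := hdec _ hdgC
  rw [hsi] at hdgv
  have h1 : s * v * s⁻¹ = v ^ 2 := by
    rw [← hdgv]
    calc s * v * s⁻¹ = s * (v ^ i * v * (v ^ i)⁻¹) * s⁻¹ := by
          rw [← pow_succ, pow_succ', mul_inv_cancel_right]
      _ = _ := by group
  refine hvS ?_
  have h2 : s * (v * s⁻¹ * v⁻¹) = v := by
    calc s * (v * s⁻¹ * v⁻¹) = (s * v * s⁻¹) * v⁻¹ := by group
      _ = v := by rw [h1, pow_two, mul_inv_cancel_right]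
  rw [← h2]
  exact mul_mem hs ((mem_normalizer_iff.mp D.vN _).mp (inv_mem hs))

end Split

end Cfsg.Agent.OrderJanko
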