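/-
The complement `Y` is simple of order 60.
Main results: `Split.card_ne_660`, `Split.card_eq_sixty`.
-/
import Cfsg.Agent.Lib.OrderJanko.Meet
import Cfsg.Agent.Lib.Order175560.Simple
import Cfsg.Agent.Lib.SmallOrders.BlockDegrees.Orders2

set_option autoImplicit false

namespace Cfsg.Agent.OrderJanko

open Cfsg Subgroup SmallOrders Order175560

variable {G : Type*} [Group G] [Finite G] [IsSimpleGroup G] (hn : Nat.card G = 175560)
include hn

/-- If an element of prime order `q` commutes with an involution then `q` divides `|C(t)|`. -/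
theorem prime_dvd_of_even {q c : ℕ} [Fact q.Prime] {j : ℕ} (I : Info G q c j) (hq : q ∣ Nat.card G)
    (h2 : 2 ∣ q * c) {t : G} (ht : orderOf t = 2) : q ∣ Nat.card (centralizer ({t} : Set G)) := by
  have : Fact (Nat.Prime 2) := ⟨Nat.prime_two⟩
  obtain ⟨x, hx⟩ := exists_prime_orderOf_dvd_card' (G := G) q hq
  obtain ⟨u, hu⟩ := exists_prime_orderOf_dvd_card' (G := centralizer ({x} : Set G)) 2 (I.cent x hx ▸ h2)
  obtain ⟨g, hg⟩ := one_class hn ht (w := (u : G)) (by rw [Subgroup.orderOf_coe, hu])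
  rw [← card_centralizer_conj g t, hg, ← hx]
  exact orderOf_dvd_natCard _ (mem_centralizer_singleton_iff.mpr (mem_centralizer_singleton_iff.mp u.2).symm)

namespace Split

variable {S : Sylow 2 G} {v t : G} {Y : Subgroup G} (D : Split S v t Y)
include D

theorem card_ne_660 [IsSimpleGroup Y] : Nat.card Y ≠ 660 := by
  intro h
  have : Fact (Nat.Prime 2) := ⟨Nat.prime_two⟩
  have : Fact (Nat.Prime 3) := ⟨Nat.prime_three⟩
  have : Fact (Nat.Prime 5) := ⟨Nat.prime_five⟩
  have : Fact (Nat.Prime 11) := ⟨by norm_num⟩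
  have : Fact (Nat.Prime 19) := ⟨by norm_num⟩
  have hY : ¬ IsMulCommutative Y := not_isMulCommutative_of_card (by rw [h]; norm_num)
  have hG := not_comm hn
  have hto := t_order hn D
  have hC : Nat.card (centralizer ({t} : Set G)) = 1320 := by rw [← D.card, h]
  obtain ⟨c5', j5', J5, hJ5⟩ := exists_info hY h 5 [(1, 2)] (by decide +kernel)
  obtain ⟨c3', j3', J3, hJ3⟩ := exists_info hY h 3 [(5, 2), (2, 2)] (by decide +kernel)
  obtain ⟨c11', j11', J11, hJ11⟩ := exists_info hY h 11 [(1, 5)] (by decide +kernel)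
  simp only [List.mem_cons, List.not_mem_nil, or_false, Prod.mk.injEq] at hJ5 hJ3 hJ11
  obtain ⟨rfl, rfl⟩ := hJ5
  obtain ⟨rfl, rfl⟩ := hJ11
  obtain ⟨c5, j5, I5, L5⟩ := info5 hG hn
  obtain ⟨c3, j3, I3, L3⟩ := info3 hG hn
  obtain ⟨c11, j11, I11, L11⟩ := info11 hG hn
  obtain ⟨c19, j19, I19, L19⟩ := info19 hG hn
  have hc3' : c3' = 2 := by
    rcases hJ3 with ⟨rfl, -⟩ | ⟨rfl, -⟩
    · exact absurd (J3.symm_dvd J5 (by norm_num)) (by norm_num)
    · rfl
  subst hc3'
  -- facts about an element of `Y` of prime order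
  have facts : ∀ (q cq jq cq' jq' : ℕ), Info G q cq jq → Info Y q cq' jq' → Fact q.Prime → q ∣ 660 → ¬ 2 ∣ q →
      2 ∣ cq ∧ (¬ 2 ∣ cq' → ¬ 4 ∣ cq) ∧ (2 ∣ cq' → 4 ∣ cq) := by
    intro q cq jq cq' jq' I J hq hd h2
    obtain ⟨⟨y, hy⟩, hyo⟩ := exists_prime_orderOf_dvd_card' (G := Y) q (h ▸ hd)
    have hm := card_cent_meet hn D hy (J.cent _ hyo)
    rw [orderOf_mk] at hyo
    have hC := I.cent y hyo
    have hty : Commute t y := (mem_centralizer_singleton_iff.mp (D.le hy)).symm
    have hle := card_dvd_of_le (inf_le_left : centralizer ({y} : Set G) ⊓ centralizer ({t} : Set G) ≤ _)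
    rw [hm, hC] at hle
    have hcop : Nat.Coprime 2 q := Nat.prime_two.coprime_iff_not_dvd.mpr h2
    refine ⟨hcop.dvd_of_dvd_mul_left ((dvd_mul_right 2 (q * cq')).trans hle), fun hodd h4 => ?_, fun hev => ?_⟩
    · have h4' : 4 ∣ Nat.card (centralizer ({y} : Set G)) := hC.symm ▸ h4.mul_left q
      have := four_dvd_meet hn hto hty h4'
      rw [hm, show (4 : ℕ) = 2 * 2 by norm_num] at this
      exact hodd (hcop.dvd_of_dvd_mul_left (Nat.dvd_of_mul_dvd_mul_left two_pos this))
    · exact (hcop.pow_left 2).dvd_of_dvd_mul_left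
        ((show (2 : ℕ) ^ 2 = 2 * 2 by norm_num) ▸ (Nat.mul_dvd_mul_left 2 (hev.mul_left q)).trans hle)
  obtain ⟨e5, o5, -⟩ := facts 5 c5 j5 _ _ I5 J5 inferInstance (by norm_num) (by norm_num)
  obtain ⟨-, -, f3⟩ := facts 3 c3 j3 _ _ I3 J3 inferInstance (by norm_num) (by norm_num)
  obtain ⟨e11, o11, -⟩ := facts 11 c11 j11 _ _ I11 J11 inferInstance (by norm_num) (by norm_num)
  have f3' := f3 (by norm_num)
  have o5' := o5 (by norm_num)
  have o11' := o11 (by norm_num)
  rcases (show ∀ x ∈ list5, 2 ∣ x.1 → ¬ 4 ∣ x.1 → 19 ∣ 5 * x.1 ∨ 3 ∣ 5 * x.1 by decide) _ L5 e5 o5' with h19 | h3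
  · have h5 := I5.symm_dvd I19 h19
    have h2 := (show ∀ x ∈ list19, 5 ∣ 19 * x.1 → 2 ∣ 19 * x.1 by decide) _ L19 h5
    have := prime_dvd_of_even hn I19 (by rw [hn]; norm_num) h2 hto
    rw [hC] at this
    norm_num at this
  · have h5 := I5.symm_dvd I3 h3
    have h11 := (show ∀ x ∈ list3, 4 ∣ x.1 → 5 ∣ 3 * x.1 → 11 ∣ 3 * x.1 by decide) _ L3 f3' h5
    have h3' := I3.symm_dvd I11 h11
    exact o11' ((show ∀ x ∈ list11, 2 ∣ x.1 → 3 ∣ 11 * x.1 → 4 ∣ x.1 by decide) _ L11 e11 h3')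

theorem card_eq_sixty : Nat.card Y = 60 ∧ IsSimpleGroup Y := by
  obtain ⟨m, hm, hm', h3⟩ := card_eq_mul hn D
  have hsimp : IsSimpleGroup Y := (simple_or_twelve hn D).resolve_right (card_ne_twelve hn D)
  refine ⟨?_, hsimp⟩
  have hY : ¬ IsMulCommutative Y := not_isMulCommutative_of_card fun hp => by
    rw [hm] at hp
    have := (Nat.prime_dvd_prime_iff_eq Nat.prime_two hp).mp (dvd_mul_of_dvd_left (by norm_num) m)
    omega
  have h12 := card_ne_twelve hn D
  have h660 := card_ne_660 hn D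
  have h4620 := BlockDegrees.card_ne_4620 (G := Y)
  have h84 := card_ne_of_critBool hY (n := 84) 7 1 (by decide +kernel)
  have h132 := card_ne_of_critBool hY (n := 132) 11 1 (by decide +kernel)
  have h924 := card_ne_of_critBool hY (n := 924) 11 1 (by decide +kernel)
  have h420 := card_ne_of_critBool2 hY (n := 420) 7 1 (by decide +kernel)
  have h228 := Order175560.card_ne hY (d := 12) (by norm_num) (by norm_num) (by norm_num)
  have h1140 := Order175560.card_ne hY (d := 60) (by norm_num) (by norm_num) (by norm_num)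
  have h1596 := Order175560.card_ne hY (d := 84) (by norm_num) (by norm_num) (by norm_num)
  have h2508 := Order175560.card_ne hY (d := 132) (by norm_num) (by norm_num) (by norm_num)
  have h7980 := Order175560.card_ne hY (d := 420) (by norm_num) (by norm_num) (by norm_num)
  have h12540 := Order175560.card_ne hY (d := 660) (by norm_num) (by norm_num) (by norm_num)
  have h17556 := Order175560.card_ne hY (d := 924) (by norm_num) (by norm_num) (by norm_num)
  have h87780 := Order175560.card_ne hY (d := 4620) (by norm_num) (by norm_num) (by norm_num)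
  have key : ∀ m ∈ oddDiv, 3 ∣ m → m = 3 ∨ m = 15 ∨ m = 21 ∨ m = 33 ∨ m = 57 ∨ m = 105 ∨ m = 165 ∨ m = 231 ∨
      m = 285 ∨ m = 399 ∨ m = 627 ∨ m = 1155 ∨ m = 1995 ∨ m = 3135 ∨ m = 4389 ∨ m = 21945 := by decide
  rcases key m (mem_oddDiv hm') h3 with h | h | h | h | h | h | h | h | h | h | h | h | h | h | h | h <;>
    subst h <;> omega

end Split

end Cfsg.Agent.OrderJanko
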