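/-
A simple group of order 175560 has a 2-central involution with centraliser of type `2 × A5`.
Main result: `exists_twoCentral`.
-/
import Cfsg.Agent.Lib.OrderJanko.Orders
import Cfsg.Agent.Lib.JankoOneOrder.Model
import Cfsg.Agent.S0494

set_option autoImplicit false

namespace Cfsg.Agent.OrderJanko

open Cfsg Subgroup JankoOneOrder

variable {G : Type*} [Group G] [Finite G] [IsSimpleGroup G]

theorem exists_twoCentral (hn : Nat.card G = 175560) :
    ∃ t : G, IsTwoCentralInvolution t ∧ Nonempty (centralizer ({t} : Set G) ≃* Mdl) := by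
  have : Fact (Nat.Prime 2) := ⟨Nat.prime_two⟩
  obtain ⟨S⟩ := (inferInstance : Nonempty (Sylow 2 G))
  obtain ⟨v, t, Y, D⟩ := exists_split hn S
  have hto := Split.t_order hn D
  have hSC := le_cent hn S D.tS
  refine ⟨t, ⟨hto, S, D.tS, fun x hx => mem_centralizer_singleton_iff.mp (hSC hx)⟩, ?_⟩
  obtain ⟨h60, hsimp⟩ := Split.card_eq_sixty hn D
  obtain ⟨e⟩ := Cfsg.Agent.S0494.result (G := Y) h60
  set C := centralizer ({t} : Set G) with hC
  let tC : C := ⟨t, hSC D.tS⟩
  have htC : tC ^ 2 = 1 := Subtype.ext (by rw [SubgroupClass.coe_pow, ← hto]; exact pow_orderOf_eq_one t)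
  let ψ : Multiplicative (ZMod 2) →* C :=
    MonoidHom.mk' (fun z => tC ^ z.toAdd.val) fun a b => pow_val_add htC a.toAdd b.toAdd
  let χ : alternatingGroup (Fin 5) →* C := (Subgroup.inclusion D.le).comp e.symm.toMonoidHom
  have hcomm : ∀ z a, Commute (ψ z) (χ a) := fun z a =>
    Commute.pow_left (show Commute tC (χ a) from Subtype.ext (mem_centralizer_singleton_iff.mp (D.le (e.symm a).2)).symm) _
  let f : Mdl →* C := ψ.noncommCoprod χ hcomm
  have hf : Function.Injective f := by
    refine (injective_iff_map_eq_one f).mpr fun x hx => ?_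
    obtain ⟨z, a⟩ := x
    have hx' : (tC : G) ^ z.toAdd.val * ((e.symm a : Y) : G) = 1 := congrArg Subtype.val hx
    have hzlt := ZMod.val_lt z.toAdd
    rcases Nat.eq_zero_or_pos z.toAdd.val with h0 | h0
    · rw [h0, pow_zero, one_mul] at hx'
      have hz : z = 1 := Multiplicative.toAdd.injective ((ZMod.val_eq_zero _).mp h0)
      have ha : e.symm a = 1 := Subtype.ext hx'
      rw [map_eq_one_iff _ e.symm.injective] at ha
      rw [hz, ha]; rfl
    · exfalso
      rw [show z.toAdd.val = 1 by omega, pow_one] at hx'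
      refine D.tY ?_
      rw [show t = ((e.symm a : Y) : G)⁻¹ from eq_inv_of_mul_eq_one_left hx']
      exact inv_mem (e.symm a).2
  have hcard : Nat.card C ≤ Nat.card Mdl := by
    rw [Nat.card_prod, ← Nat.card_congr e.toEquiv, h60, ← D.card, h60, Nat.card_congr Multiplicative.toAdd,
      Nat.card_zmod]
  exact ⟨(MulEquiv.ofBijective f (hf.bijective_of_nat_card_le hcard)).symm⟩

end Cfsg.Agent.OrderJanko
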